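import Cfsg.Agent.ODD.Red.Gal
import Cfsg.Agent.H700.PRat
import Cfsg.Agent.Characters.EquivOfChar
import Cfsg.Agent.Characters.Values
import Cfsg.Agent.Characters.Clifford
import Cfsg.Agent.CharDeep.Twist
import Cfsg.Agent.CharDeep.IrrEquiv
import Cfsg.Agent.CharactersDeep.CosetAverage

/-!
# ODD: basic tools for characters

* degrees: `charDegree_of`, `apply_one`, `odd_iff`;
* the determinant `dH χ : G →* ℂˣ` with `dH_rep`, `dH_comp`, `dH_smul`, `dH_lin`, `dH_map`;
* `exists_central` (central elements act by scalars), `exists_quot` (deflation), `isIrr_lin_mul`, `gall_inj`;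
* constituents of odd degree and odd multiplicity: `OC`, `odd_card_OC`, `exists_OC_fix`, `exists_OC_inv`.
-/

set_option autoImplicit false
set_option maxHeartbeats 400000

namespace Cfsg.Agent.ODD.Red

open Cfsg Cfsg.Agent.Characters Cfsg.Agent.Characters.Core Module
open scoped ComplexConjugate

universe u v

section Deg

variable {G : Type u} [Group G]

theorem charDegree_of {χ : G → ℂ} {n : ℕ} (h : χ 1 = n) : charDegree χ = n := by
  simp [charDegree, h]

theorem apply_one {χ : G → ℂ} (hχ : IsCharacter G χ) : χ 1 = charDegree χ := by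
  obtain ⟨n, hn⟩ := isCharacter_apply_one hχ
  rw [charDegree_of hn, hn]

theorem odd_iff {χ : G → ℂ} (hχ : IsCharacter G χ) :
    Odd (charDegree χ) ↔ ∃ n : ℕ, Odd n ∧ χ 1 = n :=
  ⟨fun h => ⟨_, h, apply_one hχ⟩, fun ⟨_, h1, h2⟩ => by rwa [charDegree_of h2]⟩

theorem charDegree_congr {H : Type v} [Group H] {χ : G → ℂ} {ψ : H → ℂ} (h : χ 1 = ψ 1) :
    charDegree χ = charDegree ψ := by
  simp [charDegree, h]

theorem charDegree_rep {V : Type*} [AddCommGroup V] [Module ℂ V] [FiniteDimensional ℂ V]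
    (ρ : Representation ℂ G V) : charDegree ρ.character = finrank ℂ V :=
  charDegree_of (by simp)

theorem charDegree_map (σ : ℂ ≃+* ℂ) {χ : G → ℂ} (hχ : IsCharacter G χ) :
    charDegree (fun g => σ (χ g)) = charDegree χ :=
  charDegree_congr (by rw [apply_one hχ, map_natCast])

/-- a product of degrees -/
theorem odd_of_mul {a b c : ℕ} (hc : Odd c) (h : (c : ℂ) = a * b) : Odd a ∧ Odd b := by
  have h1 : c = a * b := by exact_mod_cast h
  rw [h1] at hc
  exact Nat.odd_mul.1 hc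

end Deg

section Det

variable {G : Type u} [Group G]

open Classical in
/-- The determinant of a character as a homomorphism. -/
noncomputable def dH (χ : G → ℂ) : G →* ℂˣ :=
  if h : IsCharacter G χ then CharDeep.IrrEquiv.detHom (Classical.choose (Classical.choose_spec h)) else 1

theorem dH_eq_detChar {χ : G → ℂ} (hχ : IsCharacter G χ) (g : G) : (dH χ g : ℂ) = detChar χ g := by
  have h1 : detChar χ = fun g => LinearMap.det ((Classical.choose (Classical.choose_spec hχ)) g) :=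
    dif_pos hχ
  rw [h1, dH, dif_pos hχ]
  rfl

theorem dH_rep [Finite G] {V : Type*} [AddCommGroup V] [Module ℂ V] [FiniteDimensional ℂ V]
    (ρ : Representation ℂ G V) (g : G) : (dH ρ.character g : ℂ) = LinearMap.det (ρ g) := by
  have hχ := isCharacter_of_rep ρ
  rw [dH, dif_pos hχ, CharDeep.IrrEquiv.detHom_apply]
  obtain ⟨e⟩ := EquivOfChar.nonempty_equiv_of_character_eq _ ρ
    (Classical.choose_spec (Classical.choose_spec hχ))
  exact CharDeep.IrrEquiv.det_eq_of_equiv _ _ e g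

theorem dH_comp [Finite G] {H : Type v} [Group H] [Finite H] (f : H →* G) {χ : G → ℂ}
    (hχ : IsCharacter G χ) (h : H) : dH (fun x => χ (f x)) h = dH χ (f h) := by
  obtain ⟨n, ρ, rfl⟩ := hχ
  apply Units.ext
  rw [dH_rep]
  exact dH_rep (ρ.comp f) h

theorem dH_add [Finite G] {χ ψ : G → ℂ} (hχ : IsCharacter G χ) (hψ : IsCharacter G ψ) (g : G) :
    dH (χ + ψ) g = dH χ g * dH ψ g := by
  obtain ⟨n, ρ, rfl⟩ := hχ
  obtain ⟨m, σ, rfl⟩ := hψ
  apply Units.ext
  rw [Units.val_mul, dH_rep, dH_rep, ← character_prod, dH_rep]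
  exact LinearMap.det_prodMap _ _

theorem dH_zero [Finite G] (g : G) : dH (0 : G → ℂ) g = 1 := by
  have h := dH_add (isCharacter_zero (G := G)) isCharacter_zero g
  rw [add_zero] at h
  exact left_eq_mul.1 h

theorem dH_nsmul [Finite G] {χ : G → ℂ} (hχ : IsCharacter G χ) (e : ℕ) (g : G) :
    dH (e • χ) g = dH χ g ^ e := by
  induction e with
  | zero => rw [zero_smul, pow_zero, dH_zero]
  | succ e ih => rw [succ_nsmul, dH_add (isCharacter_nsmul e hχ) hχ, ih, pow_succ]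

theorem dH_smul [Finite G] {χ : G → ℂ} (hχ : IsCharacter G χ) (e : ℕ) (g : G) :
    dH (fun x => (e : ℂ) * χ x) g = dH χ g ^ e := by
  rw [← dH_nsmul hχ]
  congr 2
  funext x
  simp

theorem dH_lin [Finite G] (l : G →* ℂˣ) {χ : G → ℂ} (hχ : IsCharacter G χ) (g : G) :
    dH (fun x => (l x : ℂ) * χ x) g = l g ^ charDegree χ * dH χ g := by
  obtain ⟨n, ρ, rfl⟩ := hχ
  apply Units.ext
  have h1 : (fun x => (l x : ℂ) * ρ.character x) = (CharDeep.Twist.twist l ρ).character :=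
    funext fun x => (CharDeep.Twist.twist_character l ρ x).symm
  rw [h1, dH_rep, CharDeep.Twist.twist_det, Units.val_mul, dH_rep, charDegree_rep, Units.val_pow_eq_pow_val]

theorem dH_map [Finite G] (σ : ℂ ≃+* ℂ) {χ : G → ℂ} (hχ : IsIrrCharacter G χ) (g : G) :
    (dH (fun x => σ (χ x)) g : ℂ) = σ (dH χ g) := by
  rw [dH_eq_detChar (GaloisBasic.isCharacter_map σ (isIrr_isCharacter hχ)),
    dH_eq_detChar (isIrr_isCharacter hχ)]
  exact H700.PRat.detChar_map σ hχ g

theorem dH_fix [Finite G] {σ : ℂ ≃+* ℂ} {χ : G → ℂ} (hχ : IsIrrCharacter G χ) (h : Fix σ χ) (g : G) :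
    σ (dH χ g) = dH χ g := by
  rw [← dH_map σ hχ]
  have h1 : (fun x => σ (χ x)) = χ := funext h
  rw [h1]

theorem hom_pow_card [Finite G] (l : G →* ℂˣ) (g : G) : (l g : ℂ) ^ Nat.card G = 1 := by
  rw [← Units.val_pow_eq_pow_val, ← map_pow, pow_card_eq_one', map_one, Units.val_one]

end Det

section Misc

variable {G : Type u} [Group G]

/-- Central elements act by scalars. -/
theorem exists_central [Finite G] {χ : G → ℂ} (hχ : IsIrrCharacter G χ) {z : G} (hz : z ∈ Subgroup.center G) :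
    ∃ c : ℂ, (∀ g, χ (z * g) = c * χ g) ∧ (∀ k : ℕ, z ^ k = 1 → c ^ k = 1) ∧
      (dH χ z : ℂ) = c ^ charDegree χ := by
  obtain ⟨n, ρ, hρ, rfl⟩ := hχ
  have hV : Nontrivial (Fin n → ℂ) := ((CharDeep.LinearChar.isIrreducible_iff ρ).1 hρ).1
  obtain ⟨c, hc⟩ := CharDeep.IrrEquiv.exists_smul_of_commute ρ hρ (ρ z) fun g => by
    rw [← map_mul, ← map_mul, Subgroup.mem_center_iff.1 hz g]
  refine ⟨c, fun g => ?_, fun k hk => ?_, ?_⟩
  · change LinearMap.trace ℂ _ (ρ (z * g)) = c * LinearMap.trace ℂ _ (ρ g)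
    rw [map_mul, hc, smul_mul_assoc, one_mul, map_smul, smul_eq_mul]
  · have h1 : (ρ z) ^ k = 1 := by rw [← map_pow, hk, map_one]
    rw [hc, smul_pow, one_pow] at h1
    obtain ⟨v, hv⟩ := exists_ne (0 : Fin n → ℂ)
    have h2 : (c ^ k) • v = (1 : ℂ) • v := by
      have := LinearMap.congr_fun h1 v
      simpa using this
    exact smul_left_injective ℂ hv h2
  · rw [dH_rep, hc, LinearMap.det_smul, map_one, mul_one, charDegree_rep]

/-- An element with `χ z = χ 1` acts trivially. -/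
theorem apply_mul_of_ker [Finite G] {χ : G → ℂ} (hχ : IsCharacter G χ) {z : G} (hz : χ z = χ 1) (g : G) :
    χ (z * g) = χ g := by
  obtain ⟨n, ρ, rfl⟩ := hχ
  have h1 : ρ z = LinearMap.id := by
    rw [← Values.character_eq_finrank_iff, hz]
    simp
  change LinearMap.trace ℂ _ (ρ (z * g)) = LinearMap.trace ℂ _ (ρ g)
  rw [map_mul, h1]
  rfl

/-- Deflation along a surjective homomorphism. -/
theorem exists_quot [Finite G] {H : Type v} [Group H] (φ : G →* H) (hφ : Function.Surjective φ) {χ : G → ℂ}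
    (hχ : IsIrrCharacter G χ) (hk : ∀ z ∈ φ.ker, χ z = χ 1) :
    ∃ η : H → ℂ, IsIrrCharacter H η ∧ ∀ g, η (φ g) = χ g := by
  obtain ⟨n, ρ, hρ, rfl⟩ := hχ
  have hker : ∀ z ∈ φ.ker, ρ z = 1 := by
    intro z hz
    have h1 : ρ z = LinearMap.id := by
      rw [← Values.character_eq_finrank_iff, hk z hz]
      simp
    exact h1
  let ρ' : Representation ℂ H (Fin n → ℂ) := (QuotientGroup.lift φ.ker ρ hker).comp
    (QuotientGroup.quotientKerEquivOfSurjective φ hφ).symm.toMonoidHom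
  have h1 : ∀ g, ρ' (φ g) = ρ g := by
    intro g
    have h2 : (QuotientGroup.quotientKerEquivOfSurjective φ hφ).symm (φ g) = (g : G ⧸ φ.ker) := by
      rw [MulEquiv.symm_apply_eq]
      rfl
    change QuotientGroup.lift φ.ker ρ hker ((QuotientGroup.quotientKerEquivOfSurjective φ hφ).symm (φ g)) = _
    rw [h2]
    rfl
  refine ⟨ρ'.character, ⟨n, ρ', ?_, rfl⟩, fun g => ?_⟩
  · rw [CharDeep.LinearChar.isIrreducible_iff] at hρ ⊢
    refine ⟨hρ.1, fun W hW => hρ.2 W fun g v hv => ?_⟩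
    rw [← h1]
    exact hW _ v hv
  · change LinearMap.trace ℂ _ (ρ' (φ g)) = LinearMap.trace ℂ _ (ρ g)
    rw [h1]

theorem isIrr_lin_mul (l : G →* ℂˣ) {χ : G → ℂ} (hχ : IsIrrCharacter G χ) :
    IsIrrCharacter G (fun x => (l x : ℂ) * χ x) := by
  obtain ⟨n, ρ, hρ, rfl⟩ := hχ
  exact ⟨n, CharDeep.Twist.twist l ρ, CharDeep.Twist.twist_irreducible l ρ hρ,
    funext fun x => CharDeep.Twist.twist_character l ρ x⟩

theorem isIrr_comp' {H : Type v} [Group H] (f : H →* G) (hf : Function.Surjective f) {χ : G → ℂ}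
    (hχ : IsIrrCharacter G χ) : IsIrrCharacter H (fun x => χ (f x)) :=
  isIrr_comp f hf hχ

theorem isCharacter_comp' {H : Type v} [Group H] (f : H →* G) {χ : G → ℂ}
    (hχ : IsCharacter G χ) : IsCharacter H (fun x => χ (f x)) :=
  isCharacter_comp f hχ

/-- If `f H` and the centre generate `G`, irreducible characters restrict irreducibly. -/
theorem isIrr_comp_central {H : Type v} [Group H] (f : H →* G)
    (hf : ∀ g, ∃ z ∈ Subgroup.center G, ∃ h, g = z * f h) {χ : G → ℂ}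
    (hχ : IsIrrCharacter G χ) : IsIrrCharacter H (fun x => χ (f x)) := by
  obtain ⟨n, ρ, hρ, rfl⟩ := hχ
  refine ⟨n, ρ.comp f, ?_, rfl⟩
  have hρ' := hρ
  rw [CharDeep.LinearChar.isIrreducible_iff] at hρ ⊢
  refine ⟨hρ.1, fun W hW => hρ.2 W fun g v hv => ?_⟩
  obtain ⟨z, hz, h, rfl⟩ := hf g
  obtain ⟨c, hc⟩ := CharDeep.IrrEquiv.exists_smul_of_commute ρ hρ' (ρ z) fun g => by
    rw [← map_mul, ← map_mul, Subgroup.mem_center_iff.1 hz g]
  rw [map_mul, hc, smul_mul_assoc, one_mul, LinearMap.smul_apply]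
  exact W.smul_mem c (hW h v hv)

/-- Gallagher, injectivity. -/
theorem gall_inj [Finite G] (N : Subgroup G) [N.Normal] {χ : G → ℂ} (hχ : IsIrrCharacter G χ)
    (hχN : IsIrrCharacter N (fun n : N => χ n)) {η η' : G → ℂ}
    (hη : ∀ (n : N) (g : G), η ((n : G) * g) = η g) (hη' : ∀ (n : N) (g : G), η' ((n : G) * g) = η' g)
    (h : ∀ g, χ g * η g = χ g * η' g) (g : G) : η g = η' g := by
  have := Fintype.ofFinite G
  have := Fintype.ofFinite N
  have h1 := CharactersDeep.CosetAverage.cosetAverage_self N χ hχ hχN g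
  have key : ∀ ζ : G → ℂ, (∀ (n : N) (g : G), ζ ((n : G) * g) = ζ g) →
      ζ g = (Nat.card N : ℂ)⁻¹ * ∑ n : N, χ ((n : G) * g) * ζ ((n : G) * g) * conj (χ ((n : G) * g)) := by
    intro ζ hζ
    have h2 : ∑ n : N, χ ((n : G) * g) * ζ ((n : G) * g) * conj (χ ((n : G) * g)) =
        ζ g * ∑ n : N, χ ((n : G) * g) * conj (χ ((n : G) * g)) := by
      rw [Finset.mul_sum]
      refine Finset.sum_congr rfl fun n _ => ?_
      rw [hζ]
      ring
    rw [h2, mul_left_comm, h1, mul_one]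
  rw [key η hη, key η' hη']
  simp only [h]

/-- Gallagher: two extensions of an irreducible character differ by a linear character. -/
theorem exists_lin [Finite G] (N : Subgroup G) [N.Normal] {χ ψ : G → ℂ} (hχ : IsIrrCharacter G χ)
    (hχN : IsIrrCharacter N (fun n : N => χ n)) (hψ : IsIrrCharacter G ψ) (h : ∀ n : N, ψ n = χ n) :
    ∃ l : G →* ℂˣ, (∀ n ∈ N, l n = 1) ∧ ∀ g, ψ g = l g * χ g := by
  have := Fintype.ofFinite G
  have := Fintype.ofFinite N
  have h0 : (fun n : N => ψ n) = fun n : N => χ n := funext h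
  obtain ⟨η, h1, h2, h3⟩ := CharactersDeep.CosetAverage.exists_irr_mul N χ hχ hχN ψ hψ (by
    rw [h0, classInner_irr_self hχN]
    exact one_ne_zero)
  have h4 : η 1 = 1 := by
    have h5 : ψ 1 = χ 1 * η 1 := by rw [h3]; rfl
    have h6 : ψ 1 = χ 1 := h 1
    rw [h6] at h5
    exact (left_eq_mul₀ (isIrr_apply_one_ne_zero hχ)).1 h5
  obtain ⟨l, hl⟩ := CharactersDeep.LinearExt.exists_hom_of_isCharacter (isIrr_isCharacter h1) h4
  refine ⟨l, fun n hn => ?_, fun g => ?_⟩
  · apply Units.ext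
    have h5 := h2 ⟨n, hn⟩ 1
    rw [mul_one] at h5
    rw [hl, Units.val_one, ← h4]
    exact h5
  · rw [h3, hl, mul_comm]
    rfl

end Misc

section OddConst

variable {K : Type u} [Group K] [Fintype K]

/-- `θ` is an irreducible constituent of `X` of odd degree and odd multiplicity. -/
def OC (X θ : K → ℂ) : Prop :=
  IsIrrCharacter K θ ∧ Odd (charDegree θ) ∧ ∃ m : ℕ, Odd m ∧ classInner X θ = m

theorem OC.ne_zero {X θ : K → ℂ} (h : OC X θ) : classInner X θ ≠ 0 := by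
  obtain ⟨m, hm, h1⟩ := h.2.2
  rw [h1]
  exact_mod_cast hm.pos.ne'

theorem finite_OC (X : K → ℂ) : Finite {θ : K → ℂ // OC X θ} := by
  have := finite_irr (G := K)
  exact Finite.of_injective (fun θ : {θ : K → ℂ // OC X θ} => (⟨θ.1, θ.2.1⟩ : IrrCharacter K))
    fun a b h => Subtype.ext (congrArg (fun x : IrrCharacter K => x.1) h)

theorem odd_card_OC {X : K → ℂ} (hX : IsCharacter K X) (ho : Odd (charDegree X)) :
    Odd (Nat.card {θ : K → ℂ // OC X θ}) := by
  classical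
  have := finite_irr (G := K)
  have := Fintype.ofFinite (IrrCharacter K)
  obtain ⟨m, hm⟩ := exists_nat_comb hX
  have hin : ∀ θ : IrrCharacter K, classInner X (θ : K → ℂ) = m θ := by
    intro θ
    rw [hm]
    exact classInner_sum_nsmul_irr m θ
  have hdeg : charDegree X = ∑ θ : IrrCharacter K, m θ * charDegree (θ : K → ℂ) := by
    apply charDegree_of
    rw [hm, Finset.sum_apply]
    push_cast
    refine Finset.sum_congr rfl fun θ _ => ?_
    rw [Pi.smul_apply, nsmul_eq_mul, apply_one (isIrr_isCharacter θ.2)]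
  rw [hdeg, Finset.odd_sum_iff_odd_card_odd] at ho
  have hc : Nat.card {θ : K → ℂ // OC X θ} =
      (Finset.univ.filter fun θ : IrrCharacter K => Odd (m θ * charDegree (θ : K → ℂ))).card := by
    rw [← Fintype.card_subtype, ← Nat.card_eq_fintype_card]
    refine Nat.card_congr ⟨fun θ => ⟨⟨θ.1, θ.2.1⟩, ?_⟩, fun θ => ⟨θ.1.1, θ.1.2, ?_, m θ.1, ?_, hin _⟩,
      fun _ => rfl, fun _ => rfl⟩
    · obtain ⟨k, hk, h1⟩ := θ.2.2.2
      have h2 := h1.symm.trans (hin ⟨θ.1, θ.2.1⟩)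
      have h3 : k = m ⟨θ.1, θ.2.1⟩ := by exact_mod_cast h2
      exact (h3 ▸ hk).mul θ.2.2.1
    · exact (Nat.odd_mul.1 θ.2).2
    · exact (Nat.odd_mul.1 θ.2).1
  rwa [hc]

theorem OC.map {X θ : K → ℂ} (h : OC X θ) {σ : ℂ ≃+* ℂ} (hX : Fix σ X) : OC X (fun g => σ (θ g)) := by
  obtain ⟨h1, h2, m, hm, h3⟩ := h
  refine ⟨GaloisIrr.isIrr_map σ h1, by rwa [charDegree_map σ (isIrr_isCharacter h1)], m, hm, ?_⟩
  have h4 := GaloisIrr.classInner_map σ (χ := X) (isIrr_isCharacter h1)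
  have h5 : (fun g => σ (X g)) = X := funext hX
  rw [h5, h3, map_natCast] at h4
  exact h4

theorem Fix.symm {G : Type*} {σ : ℂ ≃+* ℂ} {χ : G → ℂ} (h : Fix σ χ) : Fix σ.symm χ := by
  intro g
  rw [RingEquiv.symm_apply_eq, h g]

/-- A field automorphism whose order is a power of two fixes a constituent. -/
theorem exists_OC_fix {X : K → ℂ} (hX : IsCharacter K X) (ho : Odd (charDegree X)) {σ : ℂ ≃+* ℂ}
    (hfix : Fix σ X) {b : ℕ} (hσ : ∀ θ, IsIrrCharacter K θ → Fix (σ ^ 2 ^ b) θ) :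
    ∃ θ, OC X θ ∧ Fix σ θ := by
  classical
  have := finite_OC X
  have := Fintype.ofFinite {θ : K → ℂ // OC X θ}
  let f : Equiv.Perm {θ : K → ℂ // OC X θ} :=
    ⟨fun θ => ⟨fun g => σ (θ.1 g), θ.2.map hfix⟩, fun θ => ⟨fun g => σ.symm (θ.1 g), θ.2.map hfix.symm⟩,
      fun θ => Subtype.ext (funext fun g => σ.symm_apply_apply _),
      fun θ => Subtype.ext (funext fun g => σ.apply_symm_apply _)⟩
  have hf : ∀ (k : ℕ) (θ : {θ : K → ℂ // OC X θ}) (g : K), ((f ^ k) θ).1 g = (σ ^ k) (θ.1 g) := by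
    intro k
    induction k with
    | zero => intro θ g; rfl
    | succ k ih =>
      intro θ g
      rw [pow_succ', pow_succ', Equiv.Perm.mul_apply, RingAut.mul_apply, ← ih]
      rfl
  have h1 : f ^ 2 ^ b = 1 := by
    ext θ g
    rw [hf]
    exact hσ θ.1 θ.2.1 g
  have h2 : ¬ 2 ∣ Fintype.card {θ : K → ℂ // OC X θ} := by
    rw [← Nat.card_eq_fintype_card]
    exact (odd_card_OC hX ho).not_two_dvd_nat
  have : Fact (Nat.Prime 2) := ⟨Nat.prime_two⟩
  obtain ⟨θ, hθ⟩ := Equiv.Perm.exists_fixed_point_of_prime h2 h1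
  exact ⟨θ.1, θ.2, fun g => congrFun (congrArg Subtype.val hθ) g⟩

theorem OC.aut {X θ : K → ℂ} (h : OC X θ) (α : MulAut K) (hX : ∀ k, X (α k) = X k) :
    OC X (fun k => θ (α k)) := by
  obtain ⟨h1, h2, m, hm, h3⟩ := h
  refine ⟨isIrr_comp' α.toMonoidHom α.surjective h1, ?_, m, hm, ?_⟩
  · rwa [charDegree_congr (ψ := θ) (by simp)]
  · have h4 := Clifford.classInner_comp_mulEquiv α X θ
    have h5 : X ∘ α = X := funext hX
    rw [h5, h3] at h4
    exact h4

/-- A `2`-group of automorphisms fixes a constituent. -/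
theorem exists_OC_inv {X : K → ℂ} (hX : IsCharacter K X) (ho : Odd (charDegree X)) {Γ : Type v} [Group Γ]
    (hΓ : IsPGroup 2 Γ) (φ : Γ →* MulAut K) (hinv : ∀ γ k, X (φ γ k) = X k) :
    ∃ θ, OC X θ ∧ ∀ γ k, θ (φ γ k) = θ k := by
  have := finite_OC X
  let _ : MulAction Γ {θ : K → ℂ // OC X θ} :=
    { smul := fun γ θ => ⟨fun k => θ.1 (φ γ⁻¹ k), θ.2.aut _ (hinv _)⟩
      one_smul := fun θ => Subtype.ext (funext fun k => by
        change θ.1 (φ 1⁻¹ k) = θ.1 k
        rw [inv_one, map_one, MulAut.one_apply])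
      mul_smul := fun a b θ => Subtype.ext (funext fun k => by
        change θ.1 (φ (a * b)⁻¹ k) = θ.1 (φ b⁻¹ (φ a⁻¹ k))
        rw [mul_inv_rev, map_mul, MulAut.mul_apply]) }
  have : Fact (Nat.Prime 2) := ⟨Nat.prime_two⟩
  obtain ⟨θ, hθ⟩ := hΓ.nonempty_fixed_point_of_prime_not_dvd_card {θ : K → ℂ // OC X θ}
    (odd_card_OC hX ho).not_two_dvd_nat
  refine ⟨θ.1, θ.2, fun γ k => ?_⟩
  have h1 := congrFun (congrArg Subtype.val (hθ γ⁻¹)) k
  change θ.1 (φ γ⁻¹⁻¹ k) = θ.1 k at h1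
  rwa [inv_inv] at h1

end OddConst

end Cfsg.Agent.ODD.Red
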