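import Cfsg.Agent.ODD.Red.Cl
import Cfsg.Agent.H831.GenFit
import Cfsg.Agent.H643.Sd.Basic
import Cfsg.Agent.Lib.MinNormalNonabelian
import Cfsg.Agent.Characters.Central

/-!
# ODD: the components above a non-abelian minimal normal subgroup of `G ⧸ C`, `C` central of odd order
-/

set_option autoImplicit false
set_option maxHeartbeats 400000

namespace Cfsg.Agent.ODD.Red

open Cfsg Cfsg.Agent.Characters Cfsg.Agent.Characters.Core Subgroup
open Cfsg.Agent.Lib.MinNormal Cfsg.Agent.Lib.MinNormalNonabelian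
open scoped commutatorElement Pointwise

universe u

variable {G : Type u} [Group G]

/-- The three subgroups lemma. -/
theorem comm_of_central {A B : Subgroup G} (h : ∀ a ∈ A, ∀ b ∈ B, ⁅a, b⁆ ∈ center G) {x b : G}
    (hx : x ∈ ⁅A, A⁆) (hb : b ∈ B) : Commute x b := by
  have h1 : ⁅A, B⁆ ≤ center G := commutator_le.2 h
  have h2 : ⁅⁅A, B⁆, A⁆ = ⊥ := commutator_eq_bot_iff_le_centralizer.2 (h1.trans (center_le_centralizer _))
  have h3 : ⁅⁅B, A⁆, A⁆ = ⊥ := by rwa [commutator_comm B A]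
  have h4 := commutator_eq_bot_iff_le_centralizer.1 (commutator_commutator_eq_bot_of_rotate h2 h3)
  exact (mem_centralizer_iff.1 (h4 hx) b hb).symm

theorem mem_sup_of_comm {A B : Subgroup G} (h : B ≤ centralizer (A : Set G)) {x : G} (hx : x ∈ A ⊔ B) :
    ∃ a ∈ A, ∃ b ∈ B, x = a * b := by
  have h1 : A ≤ normalizer (B : Set G) := by
    refine le_trans (fun a ha => ?_) (centralizer_le_normalizer _)
    rw [mem_centralizer_iff]
    intro b hb
    exact (mem_centralizer_iff.1 (h hb) a ha).symm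
  have h2 : x ∈ (A : Set G) * (B : Set G) := by
    rw [← coe_mul_of_left_le_normalizer_right A B h1]
    exact hx
  obtain ⟨a, ha, b, hb, rfl⟩ := h2
  exact ⟨a, ha, b, hb, rfl⟩

/-- The product formula. -/
theorem mul_formula {K : Type u} [Group K] [Finite K] {θ : K → ℂ} (hθ : IsIrrCharacter K θ) {a b : K}
    (h : ∀ y : K, ∃ z : K, y * a * y⁻¹ * b = z * (a * b) * z⁻¹) : θ (a * b) * θ 1 = θ a * θ b := by
  have := Fintype.ofFinite K
  have h1 := Central.sum_char_conj_mul hθ a b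
  have h2 : ∀ y : K, θ (y * a * y⁻¹ * b) = θ (a * b) := by
    intro y
    obtain ⟨z, hz⟩ := h y
    obtain ⟨n, ρ, -, rfl⟩ := hθ
    rw [hz]
    exact Representation.char_conj ρ _ _
  have h3 : θ 1 ≠ 0 := isIrr_apply_one_ne_zero hθ
  have h4 : (Nat.card K : ℂ) ≠ 0 := by exact_mod_cast Nat.card_pos.ne'
  rw [Finset.sum_congr rfl fun y _ => h2 y, Finset.sum_const, Finset.card_univ, ← Nat.card_eq_fintype_card,
    nsmul_eq_mul, eq_div_iff h3, mul_assoc, mul_assoc] at h1
  exact mul_left_cancel₀ h4 h1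

/-- A component of the normal subgroup `N`. -/
structure Cmp (N X : Subgroup G) : Prop where
  le : X ≤ N
  qs : IsQuasisimple X
  odd : Odd (Nat.card (center X))
  gen : ∀ n ∈ N, ∃ a ∈ X, ∃ c ∈ centralizer (X : Set G), n = a * c
  conj : ∀ g : G, g ∈ normalizer (X : Set G) ∨ ∀ x ∈ X, ∀ y ∈ X, Commute (g * x * g⁻¹) y

section

variable {S : Type u} [Group S] (π : G →* S)

/-- the commutator subgroup of the preimage -/
def cmpOf (T : Subgroup S) : Subgroup G := ⁅T.comap π, T.comap π⁆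

theorem cmpOf_le (T : Subgroup S) : cmpOf π T ≤ T.comap π := commutator_le_self _

variable {π}

theorem cmpOf_comm (hc : π.ker ≤ center G) {T U : Subgroup S} (h : ∀ t ∈ T, ∀ u ∈ U, Commute t u) {x y : G}
    (hx : x ∈ cmpOf π T) (hy : π y ∈ U) : Commute x y := by
  refine comm_of_central (B := U.comap π) (fun a ha b hb => hc ?_) hx hy
  rw [MonoidHom.mem_ker, map_commutatorElement, commutatorElement_eq_one_iff_commute]
  exact h _ ha _ hb

theorem map_cmpOf (hπ : Function.Surjective π) {T : Subgroup S} (hT : ⁅T, T⁆ = T) : (cmpOf π T).map π = T := by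
  rw [cmpOf, map_commutator, map_comap_eq_self_of_surjective hπ, hT]

theorem exists_of_mem (hπ : Function.Surjective π) {T : Subgroup S} (hT : ⁅T, T⁆ = T) {l : G} (hl : π l ∈ T) :
    ∃ c ∈ π.ker, ∃ x ∈ cmpOf π T, l = c * x := by
  rw [← map_cmpOf hπ hT] at hl
  obtain ⟨x, hx, h⟩ := hl
  refine ⟨l * x⁻¹, ?_, x, hx, by group⟩
  rw [MonoidHom.mem_ker, map_mul, map_inv, h, mul_inv_cancel]

theorem cmpOf_perfect (hπ : Function.Surjective π) (hc : π.ker ≤ center G) {T : Subgroup S} (hT : ⁅T, T⁆ = T) :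
    commutator (cmpOf π T) = ⊤ := by
  rw [eq_top_iff]
  intro x _
  rw [H643.Sd.mem_comm_of_subtype]
  have h1 : cmpOf π T ≤ ⁅cmpOf π T, cmpOf π T⁆ := by
    refine commutator_le.2 fun a ha b hb => ?_
    obtain ⟨c, hc1, x, hx, rfl⟩ := exists_of_mem hπ hT ha
    obtain ⟨d, hd1, y, hy, rfl⟩ := exists_of_mem hπ hT hb
    have h2 := mem_center_iff.1 (hc hc1)
    have h3 := mem_center_iff.1 (hc hd1)
    have h4 : ⁅c * x, d * y⁆ = ⁅x, y⁆ := by
      simp only [commutatorElement_def, mul_inv_rev]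
      calc c * x * (d * y) * (x⁻¹ * c⁻¹) * (y⁻¹ * d⁻¹)
          = c * (x * d * (y * x⁻¹)) * c⁻¹ * (y⁻¹ * d⁻¹) := by group
        _ = x * d * (y * x⁻¹) * (y⁻¹ * d⁻¹) := by rw [← h2, mul_inv_cancel_right]
        _ = x * (d * (y * x⁻¹ * y⁻¹) * d⁻¹) := by group
        _ = x * y * x⁻¹ * y⁻¹ := by rw [← h3, mul_inv_cancel_right]; group
    rw [h4]
    exact commutator_mem_commutator hx hy
  exact h1 x.2

theorem perfect_of_simple {T : Subgroup S} [IsSimpleGroup T] (h : ∀ z ∈ T, (∀ t ∈ T, Commute z t) → z = 1) :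
    center T = ⊥ ∧ ⁅T, T⁆ = T := by
  have h1 : center T = ⊥ := by
    rw [eq_bot_iff]
    intro z hz
    rw [mem_bot]
    exact Subtype.ext (h z z.2 fun t ht => (congrArg Subtype.val (mem_center_iff.1 hz ⟨t, ht⟩)).symm)
  refine ⟨h1, ?_⟩
  rcases (inferInstance : (_root_.commutator T).Normal).eq_bot_or_eq_top with h2 | h2
  · rw [commutator_def, commutator_top_right_eq_bot_iff_le_center, h1] at h2
    exact absurd (eq_bot_iff.2 h2) top_ne_bot
  · rw [← map_subtype_commutator, h2, ← MonoidHom.range_eq_map, range_subtype]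

theorem cmpOf_qs [Finite G] (hπ : Function.Surjective π) (hc : π.ker ≤ center G) (ho : Odd (Nat.card π.ker))
    {T : Subgroup S} [IsSimpleGroup T] (h : ∀ z ∈ T, (∀ t ∈ T, Commute z t) → z = 1) :
    IsQuasisimple (cmpOf π T) ∧ Odd (Nat.card (center (cmpOf π T))) := by
  obtain ⟨h1, h2⟩ := perfect_of_simple h
  let φ : cmpOf π T →* T := (π.comp (cmpOf π T).subtype).codRestrict T fun x => cmpOf_le π T x.2
  have hk : ∀ x ∈ φ.ker, (x : G) ∈ π.ker := fun x hx => congrArg Subtype.val (MonoidHom.mem_ker.1 hx)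
  obtain ⟨h3, h4⟩ := H831.GenFit.quasisimple_of_ext h1 φ (fun t => by
      have h5 : (t : S) ∈ (cmpOf π T).map π := by rw [map_cmpOf hπ h2]; exact t.2
      obtain ⟨x, hx, h6⟩ := h5
      exact ⟨⟨x, hx⟩, Subtype.ext h6⟩)
    (fun x hx => mem_center_iff.2 fun y => Subtype.ext (mem_center_iff.1 (hc (hk x hx)) y))
    (cmpOf_perfect hπ hc h2)
  refine ⟨h3, odd_card_of_pow ho fun x => ?_⟩
  have h5 : (⟨_, hk x.1 (h4 ▸ x.2)⟩ : π.ker) ^ Nat.card π.ker = 1 := pow_card_eq_one'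
  have h6 : ((x : cmpOf π T) : G) ^ Nat.card π.ker = 1 := congrArg Subtype.val h5
  exact Subtype.ext (Subtype.ext h6)

theorem minSet_comm {M T U : Subgroup S} (hT : T ∈ minSet M) (hU : U ∈ minSet M) (hne : T ≠ U) :
    ∀ t ∈ T, ∀ u ∈ U, Commute t u := by
  intro t ht u hu
  refine commute_of_disjoint (hT.1.trans hU.2.2.1) (hU.1.trans hT.2.2.1) ?_ ht hu
  rw [disjoint_iff]
  rcases hT.2.2.2 (T ⊓ U) inf_le_left
    ((le_inf hT.2.2.1 hU.2.2.1).trans inf_normalizer_le_normalizer_inf) with h | h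
  · exact h
  · rcases hU.2.2.2 T (h ▸ inf_le_right) hT.2.2.1 with h1 | h1
    · exact absurd h1 hT.2.1
    · exact absurd h1 hne

/-- **The components.** -/
theorem exists_cmp [Finite G] (hπ : Function.Surjective π) (hc : π.ker ≤ center G) (ho : Odd (Nat.card π.ker))
    (M : Subgroup S) [M.Normal] (hmin : ∀ K : Subgroup S, K.Normal → K ≤ M → K = ⊥ ∨ K = M)
    (hna : ¬ ∀ x ∈ M, ∀ y ∈ M, Commute x y) :
    ∃ s : Set (Subgroup G), (∀ X ∈ s, Cmp (M.comap π) X) ∧
      (∀ X ∈ s, ∀ Y ∈ s, X ≠ Y → Y ≤ centralizer (X : Set G)) ∧ M.comap π ≤ π.ker ⊔ sSup s := by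
  have : Finite S := Finite.of_surjective π hπ
  obtain ⟨-, -, hsup, hsim, hz, -⟩ := nonabelian_structure M hmin hna
  have hcomm : ∀ X ∈ cmpOf π '' minSet M, ∀ Y ∈ cmpOf π '' minSet M, X ≠ Y → Y ≤ centralizer (X : Set G) := by
    rintro _ ⟨T, hT, rfl⟩ _ ⟨U, hU, rfl⟩ hne y hy
    rw [mem_centralizer_iff]
    intro x hx
    exact cmpOf_comm hc (minSet_comm hT hU fun h => hne (by rw [h])) hx (cmpOf_le π U hy)
  have hle : M.comap π ≤ π.ker ⊔ sSup (cmpOf π '' minSet M) := by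
    rw [sup_comm, ← comap_map_eq]
    refine comap_mono (hsup.ge.trans (sSup_le fun T hT => ?_))
    have := hsim T hT
    exact (map_cmpOf hπ (perfect_of_simple (hz T hT)).2).ge.trans (map_mono (le_sSup ⟨T, hT, rfl⟩))
  refine ⟨cmpOf π '' minSet M, ?_, hcomm, hle⟩
  rintro _ ⟨T, hT, rfl⟩
  have := hsim T hT
  obtain ⟨h1, h2⟩ := cmpOf_qs hπ hc ho (hz T hT)
  refine ⟨(cmpOf_le π T).trans (comap_mono hT.1), h1, h2, fun n hn => ?_, fun g => ?_⟩
  · refine mem_sup_of_comm le_rfl ((hle.trans (sup_le ?_ (sSup_le fun Y hY => ?_))) hn)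
    · exact le_sup_of_le_right (hc.trans (center_le_centralizer _))
    · by_cases h : cmpOf π T = Y
      · exact le_sup_of_le_left h.ge
      · exact le_sup_of_le_right (hcomm _ ⟨T, hT, rfl⟩ Y hY h)
  · have h3 : ∀ l : G, π l ∈ T → π (g * l * g⁻¹) ∈ T.map (MulAut.conj (π g)).toMonoidHom := fun l hl =>
      ⟨π l, hl, by simp⟩
    by_cases h : T = T.map (MulAut.conj (π g)).toMonoidHom
    · left
      refine mem_normalizer_fintype fun x hx => ?_
      have h4 : (T.comap π).map (MulAut.conj g).toMonoidHom ≤ T.comap π := by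
        rintro _ ⟨l, hl, rfl⟩
        have h5 := h3 l hl
        rw [← h] at h5
        exact h5
      have h5 : (cmpOf π T).map (MulAut.conj g).toMonoidHom ≤ cmpOf π T := by
        rw [cmpOf, map_commutator]
        exact commutator_mono h4 h4
      exact h5 ⟨x, hx, rfl⟩
    · right
      intro x hx y hy
      exact (cmpOf_comm hc (minSet_comm hT (map_conj_mem_minSet hT (π g)) h) hy (h3 x (cmpOf_le π T hx))).symm

end

end Cfsg.Agent.ODD.Red
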