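import Cfsg.Agent.ODD.Red.Tri
import Cfsg.Agent.OddOrderCharacters.PF9.CliffGen
import Cfsg.Agent.CharactersDeep.NormalInd

/-!
# ODD: the Clifford step; small lemmas on roots of unity
-/

set_option autoImplicit false
set_option maxHeartbeats 400000

namespace Cfsg.Agent.ODD.Red

open Cfsg Cfsg.Agent.Characters Cfsg.Agent.Characters.Core
open Cfsg.Agent.OddOrderCharacters.PF9 Cfsg.Agent.OddOrderCharacters.NormalInduced

universe u

theorem map_indFun {G : Type u} [Group G] [Fintype G] (T : Subgroup G) (ψ : T → ℂ) (σ : ℂ ≃+* ℂ) (g : G) :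
    σ (indFun T ψ g) = indFun T (fun t => σ (ψ t)) g := by
  rw [indFun_apply, indFun_apply, map_mul, map_inv₀, map_natCast, map_sum]
  congr 1
  refine Finset.sum_congr rfl fun x _ => ?_
  by_cases h : x⁻¹ * g * x ∈ T
  · rw [extendByZero_of_mem _ _ h, extendByZero_of_mem _ _ h]
  · rw [extendByZero_of_notMem _ _ h, extendByZero_of_notMem _ _ h, map_zero]

/-- **The Clifford step.** -/
theorem cliff {G : Type u} [Group G] [Finite G] (N : Subgroup G) [hN : N.Normal] [Fintype N] {χ : G → ℂ}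
    (hχ : IsIrrCharacter G χ) (ho : Odd (charDegree χ)) {θ : N → ℂ} (hθ : IsIrrCharacter N θ)
    (h0 : classInner (fun n : N => χ n) θ ≠ 0) :
    ∃ (T : Subgroup G) (ψ : T → ℂ), (∀ g, g ∈ T ↔ ∀ n : N, θ (MulAut.conjNormal g n) = θ n) ∧ N ≤ T ∧
      Odd T.index ∧ IsIrrCharacter T ψ ∧ Odd (charDegree ψ) ∧ (∀ σ, Fix σ ψ → Fix σ χ) ∧
      ∀ σ, Fix σ χ → Fix σ θ → Fix σ ψ := by
  have := Fintype.ofFinite G
  let T := CliffGen.inertia N θ
  have := Fintype.ofFinite T
  have hT : ∀ g, g ∈ T ↔ conjFn N θ g = θ := fun g => Iff.rfl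
  have hT' : ∀ g : G, g ∈ T ↔ ∀ n : N, θ ⟨g * n * g⁻¹, hN.conj_mem (n : G) n.2 g⟩ = θ n := by
    intro g
    rw [hT, funext_iff]
    rfl
  have hNT : N ≤ T := by
    intro n hn
    rw [hT']
    intro x
    exact isIrr_isClassFunction hθ x ⟨n, hn⟩
  obtain ⟨ψ, hψ, hind, hin⟩ := CharDeep.CliffordCorr.clifford_correspondence N θ hθ T hT' hNT χ hχ h0
  have h1 : Odd T.index ∧ Odd (charDegree ψ) := by
    refine odd_of_mul ho ?_
    rw [← apply_one (isIrr_isCharacter hχ), ← apply_one (isIrr_isCharacter hψ), ← hind,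
      CharactersDeep.NormalInd.indFun_one]
  refine ⟨T, ψ, hT', hNT, h1.1, hψ, h1.2, fun σ h g => ?_, fun σ h h' => ?_⟩
  · have h2 : (fun t => σ (ψ t)) = ψ := funext h
    rw [← hind, map_indFun, h2]
  · have h2 : classInner (CliffGen.resTo hNT ψ) θ ≠ 0 := by
      intro h3
      exact h0 (hin.symm.trans h3)
    have h3 : (fun t => σ (ψ t)) = ψ := by
      refine CliffGen.ind_inj hθ hT hNT (GaloisIrr.isIrr_map σ hψ) hψ ?_ h2 ?_
      · have h4 := GaloisIrr.classInner_map σ (χ := CliffGen.resTo hNT ψ) (isIrr_isCharacter hθ)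
        have h5 : (fun g => σ (θ g)) = θ := funext h'
        rw [h5] at h4
        intro h6
        exact h2 (σ.injective (by rw [← h4, map_zero]; exact h6))
      · funext g
        rw [← map_indFun, hind, h]
    exact congrFun h3

/-- A root of unity of `2`-power order fixed by an automorphism with `i ↦ -i` is `± 1`. -/
theorem sq_of_fix {σ : ℂ ≃+* ℂ} (hσ : σ Complex.I = -Complex.I) (a : ℕ) :
    ∀ w : ℂ, w ^ 2 ^ a = 1 → σ w = w → w ^ 2 = 1 := by
  induction a with
  | zero => intro w h1 _; rw [pow_zero, pow_one] at h1; rw [h1, one_pow]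
  | succ a ih =>
    intro w h1 h2
    have h3 : (w ^ 2) ^ 2 = 1 := ih (w ^ 2) (by rw [← pow_mul, ← pow_succ', h1]) (by rw [map_pow, h2])
    rcases sq_eq_one_iff.1 h3 with h4 | h4
    · exact h4
    · exfalso
      have h5 : w ^ 2 = Complex.I ^ 2 := by rw [h4, Complex.I_sq]
      rcases sq_eq_sq_iff_eq_or_eq_neg.1 h5 with rfl | rfl
      · exact I_ne_neg_I (h2.symm.trans hσ)
      · rw [map_neg, hσ, neg_neg] at h2
        exact I_ne_neg_I h2

/-- `Two τ` fixes the roots of unity of order twice an odd number. -/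
theorem Two.fix_two_mul {τ : ℂ ≃+* ℂ} (hτ : Two τ) {m : ℕ} (hm : Odd m) {z : ℂ} (hz : z ^ (2 * m) = 1) :
    τ z = z := by
  have h1 : (z ^ m) ^ 2 = 1 := by rw [← pow_mul, mul_comm, hz]
  rcases sq_eq_one_iff.1 h1 with h | h
  · exact hτ m z hm h
  · have h2 := hτ m (-z) hm (by rw [hm.neg_pow, h, neg_neg])
    rw [map_neg] at h2
    exact neg_injective h2

/-- Groups of exponent dividing twice an odd number. -/
theorem rat2_of_exponent {G : Type u} [Group G] [Finite G] {m : ℕ} (hm : Odd m) (h : ∀ g : G, g ^ (2 * m) = 1)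
    {χ : G → ℂ} (hχ : IsCharacter G χ) : Rat2 χ := fun _ hτ =>
  fix_of_roots (mul_ne_zero two_ne_zero hm.pos.ne') h (fun _ hz => hτ.fix_two_mul hm hz) hχ

theorem rat2_of_odd {G : Type u} [Group G] [Finite G] (h : Odd (Nat.card G)) {χ : G → ℂ}
    (hχ : IsCharacter G χ) : Rat2 χ :=
  rat2_of_exponent h (fun g => by rw [mul_comm, pow_mul, pow_card_eq_one', one_pow]) hχ

/-- A character of a central product with a central factor of odd order. -/
theorem fix_of_central {H : Type u} [Group H] [Finite H] (C X : Subgroup H) (hC : C ≤ Subgroup.center H)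
    (hodd : Odd (Nat.card C)) (h : ∀ g, ∃ c ∈ C, ∃ x ∈ X, g = c * x) {β : H → ℂ} (hβ : IsIrrCharacter H β)
    {τ : ℂ ≃+* ℂ} (hτ : Two τ) (hX : ∀ x ∈ X, τ (β x) = β x) : Fix τ β := by
  intro g
  obtain ⟨c, hc, x, hx, rfl⟩ := h g
  obtain ⟨z, h1, h2, -⟩ := exists_central hβ (hC hc)
  have h3 : (⟨c, hc⟩ : C) ^ Nat.card C = 1 := pow_card_eq_one'
  rw [h1, map_mul, hX x hx, hτ _ z hodd (h2 _ (congrArg Subtype.val h3))]

end Cfsg.Agent.ODD.Red
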