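import Cfsg.Agent.ODD.Red.Bas
import Cfsg.Agent.CharDeep.TripleCover
import Cfsg.Agent.CharDeep.CliffordCorr

/-!
# ODD: the character triple step

`Ext N θ`: a finite central extension `Δ` of `G` with a kernel of odd order, a lift of `N` and an extension of `θ` whose
determinant has odd order (`exists_ext`). `tri`: the consequence for an irreducible character over `θ`.
-/

set_option autoImplicit false
set_option maxHeartbeats 400000

namespace Cfsg.Agent.ODD.Red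

open Cfsg Cfsg.Agent.Characters Cfsg.Agent.Characters.Core Module
open Cfsg.Agent.CharDeep.ProjExt Cfsg.Agent.CharDeep.TripleCover

universe u

/-- A finite group all of whose elements satisfy `x ^ m = 1` with `m` odd has odd order. -/
theorem odd_card_of_pow {A : Type*} [Group A] [Finite A] {m : ℕ} (hm : Odd m) (h : ∀ x : A, x ^ m = 1) :
    Odd (Nat.card A) := by
  by_contra hcon
  have h2 : 2 ∣ Nat.card A := (Nat.not_odd_iff_even.1 hcon).two_dvd
  have : Fact (Nat.Prime 2) := ⟨Nat.prime_two⟩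
  obtain ⟨x, hx⟩ := exists_prime_orderOf_dvd_card' 2 h2
  have h3 := orderOf_dvd_of_pow_eq_one (h x)
  rw [hx] at h3
  exact hm.not_two_dvd_nat h3

/-- The determinant has odd order. -/
def OddDet {G : Type u} [Group G] (χ : G → ℂ) : Prop := ∃ m : ℕ, Odd m ∧ ∀ g, dH χ g ^ m = 1

variable {G : Type u} [Group G] [Finite G]

theorem exists_ext (N : Subgroup G) [hN : N.Normal] {θ : N → ℂ} (hθ : IsIrrCharacter N θ)
    (hinv : ∀ (g : G) (n : N), θ (MulAut.conjNormal g n) = θ n) (ho : Odd (charDegree θ)) (hd : OddDet θ) :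
    ∃ (Δ : Type u) (_ : Group Δ) (_ : Finite Δ) (π : Δ →* G) (ι : N →* Δ) (Θ : Δ → ℂ),
      Function.Surjective π ∧ π.ker ≤ Subgroup.center Δ ∧ Odd (Nat.card π.ker) ∧ (∀ n, π (ι n) = n) ∧
      ι.range.Normal ∧ IsIrrCharacter Δ Θ ∧ (∀ n, Θ (ι n) = θ n) ∧ OddDet Θ := by
  obtain ⟨d, ρ, hρ, rfl⟩ := hθ
  obtain ⟨m, hm, hdm⟩ := hd
  rw [charDegree_rep] at ho
  set V := Fin d → ℂ
  have hV : Nontrivial V := ((CharDeep.LinearChar.isIrreducible_iff ρ).1 hρ).1
  let D : (G × (V →ₗ[ℂ] V)ˣ) →* ℂˣ :=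
    (Units.map (LinearMap.det : (V →ₗ[ℂ] V) →* ℂ)).comp (MonoidHom.snd G (V →ₗ[ℂ] V)ˣ)
  let P : (G × (V →ₗ[ℂ] V)ˣ) →* ℂˣ := (powMonoidHom m).comp D
  let Δ : Subgroup (G × (V →ₗ[ℂ] V)ˣ) := intGroup ρ ⊓ P.ker
  have hΔ : Δ ≤ intGroup ρ := inf_le_left
  have hdet : ∀ x : Δ, (LinearMap.det (x.1.2 : V →ₗ[ℂ] V)) ^ m = 1 := fun x => by
    have h1 : P x.1 = 1 := x.2.2
    exact congrArg Units.val h1
  have hker : ∀ x : Δ, x ∈ (proj Δ).ker → ∃ c : ℂ, (x.1.2 : V →ₗ[ℂ] V) = c • (1 : V →ₗ[ℂ] V) :=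
    fun x hx => exists_scalar_of_fst_eq_one ρ hρ x.1 (hΔ x.2) hx
  have hodd : Odd (finrank ℂ V * m) := ho.mul hm
  choose c hc using hker
  have hcpow : ∀ (x : Δ) (hx : x ∈ (proj Δ).ker), c x hx ^ (finrank ℂ V * m) = 1 := by
    intro x hx
    have h2 := hdet x
    rw [hc x hx, LinearMap.det_smul, map_one, mul_one, ← pow_mul] at h2
    exact h2
  have hfin : Finite (proj Δ).ker := by
    have : NeZero (finrank ℂ V * m) := ⟨hodd.pos.ne'⟩
    refine Finite.of_injective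
      (fun x : (proj Δ).ker => (rootsOfUnity.mkOfPowEq (n := finrank ℂ V * m)
        (c x.1 x.2) (hcpow x.1 x.2))) ?_
    intro x y hxy
    have h3 : c x.1 x.2 = c y.1 y.2 := by
      have := congrArg (fun z : rootsOfUnity (finrank ℂ V * m) ℂ => ((z : ℂˣ) : ℂ)) hxy
      simpa using this
    apply Subtype.ext
    apply Subtype.ext
    refine Prod.ext ?_ (Units.ext ?_)
    · exact (x.2 : proj Δ x.1 = 1).trans (y.2 : proj Δ y.1 = 1).symm
    · rw [hc x.1 x.2, hc y.1 y.2, h3]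
  have hfinΔ : Finite Δ :=
    Finite.of_equiv _ (Subgroup.groupEquivQuotientProdSubgroup (s := (proj Δ).ker)).symm
  have hsec : ∀ n, sec ρ n ∈ Δ := by
    intro n
    refine ⟨sec_mem_intGroup ρ n, ?_⟩
    show (D (sec ρ n)) ^ m = 1
    apply Units.ext
    have h1 := congrArg Units.val (hdm n)
    rw [Units.val_pow_eq_pow_val, dH_rep] at h1
    exact h1
  let ι : N →* Δ := (sec ρ).codRestrict Δ hsec
  refine ⟨Δ, inferInstance, hfinΔ, proj Δ, ι, (coverRep Δ).character, ?_, ?_, ?_, fun n => rfl, ?_, ?_,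
    fun n => rfl, m, hm, fun x => ?_⟩
  · intro g
    obtain ⟨T, hT, hTd⟩ := exists_mem_intGroup ρ hρ hinv g 1
    refine ⟨⟨(g, T), hT, ?_⟩, rfl⟩
    show (D (g, T)) ^ m = 1
    have : D (g, T) = 1 := Units.ext hTd
    rw [this, one_pow]
  · intro x hx
    rw [Subgroup.mem_center_iff]
    intro y
    apply Subtype.ext
    refine Prod.ext ?_ (Units.ext ?_)
    · show y.1.1 * x.1.1 = x.1.1 * y.1.1
      have : x.1.1 = 1 := hx
      rw [this, mul_one, one_mul]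
    · show ((y.1.2 * x.1.2 : (V →ₗ[ℂ] V)ˣ) : V →ₗ[ℂ] V) = ((x.1.2 * y.1.2 : (V →ₗ[ℂ] V)ˣ) : _)
      rw [Units.val_mul, Units.val_mul, hc x hx, smul_mul_assoc, mul_smul_comm, one_mul, mul_one]
  · refine odd_card_of_pow hodd fun x => ?_
    apply Subtype.ext
    apply Subtype.ext
    refine Prod.ext ?_ (Units.ext ?_)
    · have : x.1.1.1 = 1 := x.2
      show x.1.1.1 ^ _ = 1
      rw [this, one_pow]
    · show ((x.1.1.2 ^ (finrank ℂ V * m) : (V →ₗ[ℂ] V)ˣ) : V →ₗ[ℂ] V) = 1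
      rw [Units.val_pow_eq_pow_val, hc x.1 x.2, smul_pow, one_pow, hcpow, one_smul]
  · constructor
    rintro _ ⟨n, rfl⟩ x
    exact ⟨MulAut.conjNormal x.1.1 n, Subtype.ext (conj_sec ρ x.1 (hΔ x.2) n).symm⟩
  · refine isIrrCharacter_of_rep _ ?_
    rw [CharDeep.LinearChar.isIrreducible_iff] at hρ ⊢
    exact ⟨hρ.1, fun W hW => hρ.2 W fun n v hv => hW (ι n) v hv⟩
  · apply Units.ext
    rw [Units.val_pow_eq_pow_val, dH_rep]
    exact hdet x

/-- An extension with a determinant of odd order is fixed by `τ` with `Two τ` if its restriction is. -/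
theorem fix_ext (N : Subgroup G) [N.Normal] {Θ : G → ℂ} (hΘ : IsIrrCharacter G Θ)
    (hΘN : IsIrrCharacter N (fun n : N => Θ n)) (ho : Odd (charDegree Θ)) (hd : OddDet Θ) {τ : ℂ ≃+* ℂ}
    (hτ : Two τ) (h : ∀ n : N, τ (Θ n) = Θ n) : Fix τ Θ := by
  obtain ⟨l, -, hl⟩ := exists_lin N hΘ hΘN (GaloisIrr.isIrr_map τ hΘ) h
  obtain ⟨m, hm, hdm⟩ := hd
  -- `l` has odd order
  have h1 : ∀ g, (l g : ℂ) ^ charDegree Θ = 1 := by
    intro g
    have h2 := dH_map τ hΘ g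
    have h3 : (fun x => τ (Θ x)) = fun x => (l x : ℂ) * Θ x := funext hl
    rw [h3, dH_lin l (isIrr_isCharacter hΘ), hτ m (dH Θ g) hm (by
      rw [← Units.val_pow_eq_pow_val, hdm, Units.val_one]), Units.val_mul, Units.val_pow_eq_pow_val] at h2
    exact (mul_eq_right₀ (Units.ne_zero _)).1 h2
  have h2 : ∀ (k : ℕ) (g : G), (τ ^ k) (Θ g) = (l g : ℂ) ^ k * Θ g := by
    intro k g
    induction k with
    | zero => simp
    | succ k ih =>
      rw [pow_succ', RingAut.mul_apply, ih, map_mul, map_pow, hτ _ _ ho (h1 g), hl, pow_succ]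
      ring
  obtain ⟨b, hb⟩ := hτ.exists_pow (n := Nat.card G) Nat.card_pos.ne'
  have h3 : Fix (τ ^ 2 ^ b) Θ :=
    fix_of_roots Nat.card_pos.ne' (fun g => pow_card_eq_one') hb (isIrr_isCharacter hΘ)
  intro g
  by_cases h0 : Θ g = 0
  · rw [h0, map_zero]
  · have h4 := h2 (2 ^ b) g
    rw [h3 g] at h4
    have h5 : (l g : ℂ) ^ 2 ^ b = 1 := (mul_eq_right₀ h0).1 h4.symm
    have h6 := pow_gcd_eq_one.2 ⟨h5, h1 g⟩
    rw [(Nat.Coprime.pow_left b (Nat.coprime_two_left.2 ho)).gcd_eq_one, pow_one] at h6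
    rw [hl, h6, one_mul]

/-- The restriction to a normal subgroup over an invariant constituent. -/
theorem exists_restrict (N : Subgroup G) [N.Normal] [Fintype N] {χ : G → ℂ} (hχ : IsIrrCharacter G χ) {θ : N → ℂ}
    (hθ : IsIrrCharacter N θ) (hinv : ∀ (g : G) (n : N), θ (MulAut.conjNormal g n) = θ n)
    (h : classInner (fun n : N => χ n) θ ≠ 0) : ∃ e : ℕ, ∀ n : N, χ n = e * θ n := by
  have := Fintype.ofFinite G
  have h1 := CharDeep.CliffordCorr.restrict_eq_smul_of_invariant N hχ hθ (fun g => funext (hinv g)) h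
  obtain ⟨e, he⟩ := classInner_isNat (Clifford.isCharacter_restrict N (isIrr_isCharacter hχ))
    (isIrr_isCharacter hθ)
  refine ⟨e, fun n => ?_⟩
  have h2 := congrFun h1 n
  rw [he] at h2
  exact h2

/-- **The character triple step.** -/
theorem tri (N : Subgroup G) [hN : N.Normal] {χ : G → ℂ} (hχ : IsIrrCharacter G χ) (ho : Odd (charDegree χ))
    (hd : OddDet χ) {θ : N → ℂ} (hθ : IsIrrCharacter N θ)
    (hinv : ∀ (g : G) (n : N), θ (MulAut.conjNormal g n) = θ n) {e : ℕ} (he : ∀ n : N, χ n = e * θ n) :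
    ∃ (H : Type u) (_ : Group H) (_ : Finite H) (π : H →* G ⧸ N) (β : H → ℂ),
      Function.Surjective π ∧ π.ker ≤ Subgroup.center H ∧ Odd (Nat.card π.ker) ∧ IsIrrCharacter H β ∧
      Odd (charDegree β) ∧ (∀ τ, Two τ → Fix τ θ → Fix τ β → Fix τ χ) ∧
      ∀ s, Fix s θ → Fix s χ → ∀ x ∈ commutator H, s (β x) = β x := by
  have hθc := isIrr_isCharacter hθ
  have hχc := isIrr_isCharacter hχ
  have h1 : Odd e ∧ Odd (charDegree θ) := by
    refine odd_of_mul ho ?_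
    rw [← apply_one hχc, ← apply_one hθc]
    exact he 1
  have hdθ : OddDet θ := by
    obtain ⟨m, hm, hdm⟩ := hd
    refine ⟨e * m, h1.1.mul hm, fun n => ?_⟩
    have h2 : (fun n : N => χ (N.subtype n)) = fun n => (e : ℂ) * θ n := funext he
    rw [pow_mul, ← dH_smul hθc, ← h2, dH_comp N.subtype hχc, hdm]
  obtain ⟨Δ, _, _, p, ι, Θ, hp, hpc, hpo, hpι, hιn, hΘ, hΘι, hΘd⟩ := exists_ext N hθ hinv h1.2 hdθ
  have := Fintype.ofFinite Δ
  set M := ι.range with hM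
  have := Fintype.ofFinite M
  have hιinj : Function.Injective ι := fun a b h => Subtype.ext (by rw [← hpι, ← hpι, h])
  let eM : N ≃* M := MonoidHom.ofInjective hιinj
  have heM : ∀ y : M, ι (eM.symm y) = y := fun y => MonoidHom.apply_ofInjective_symm hιinj y
  have hΘM' : (fun y : M => Θ y) = fun y => θ (eM.symm.toMonoidHom y) := by
    funext y
    rw [← heM y, hΘι]
    rfl
  have hΘM : IsIrrCharacter M (fun y : M => Θ y) := by
    rw [hΘM']
    exact isIrr_comp' _ eM.symm.surjective hθ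
  have hχp : IsIrrCharacter Δ (fun x => χ (p x)) := isIrr_comp' p hp hχ
  obtain ⟨η, hη, hηM, hηeq⟩ := CharactersDeep.CosetAverage.exists_irr_mul M Θ hΘ hΘM _ hχp (by
    have h2 : (fun y : M => χ (p y)) = (e : ℂ) • fun y : M => Θ y := by
      funext y
      rw [Pi.smul_apply, smul_eq_mul, ← heM y, hpι, hΘι, he]
    rw [h2, classInner_smul_left, classInner_irr_self hΘM, mul_one]
    exact_mod_cast h1.1.pos.ne')
  have hmul : ∀ x, χ (p x) = Θ x * η x := fun x => congrFun hηeq x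
  obtain ⟨β, hβ, hβη⟩ := exists_quot (QuotientGroup.mk' M) (QuotientGroup.mk'_surjective M) hη (by
    intro z hz
    rw [QuotientGroup.ker_mk'] at hz
    have h2 := hηM ⟨z, hz⟩ 1
    rwa [mul_one] at h2)
  let π : Δ ⧸ M →* G ⧸ N := QuotientGroup.map M N p (by
    rintro _ ⟨n, rfl⟩
    show p (ι n) ∈ N
    rw [hpι]
    exact n.2)
  have hπ : ∀ x : Δ, π (x : Δ ⧸ M) = (p x : G ⧸ N) := fun x => rfl
  have hker : ∀ y ∈ π.ker, ∃ z ∈ p.ker, (z : Δ ⧸ M) = y := by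
    intro y hy
    obtain ⟨x, rfl⟩ := QuotientGroup.mk_surjective y
    rw [MonoidHom.mem_ker, hπ, QuotientGroup.eq_one_iff] at hy
    refine ⟨x * (ι ⟨p x, hy⟩)⁻¹, ?_, ?_⟩
    · rw [MonoidHom.mem_ker, map_mul, map_inv, hpι, mul_inv_cancel]
    · have h0 : ι ⟨p x, hy⟩ ∈ M := ⟨_, rfl⟩
      rw [QuotientGroup.mk_mul, QuotientGroup.mk_inv, (QuotientGroup.eq_one_iff (ι ⟨p x, hy⟩)).2 h0,
        inv_one, mul_one]
  have hΘo : Odd (charDegree Θ) ∧ Odd (charDegree η) := by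
    refine odd_of_mul ho ?_
    rw [← apply_one hχc, ← apply_one (isIrr_isCharacter hΘ), ← apply_one (isIrr_isCharacter hη), ← hmul, map_one]
  refine ⟨Δ ⧸ M, inferInstance, inferInstance, π, β, ?_, ?_, ?_, hβ, ?_, ?_, ?_⟩
  · intro y
    obtain ⟨g, rfl⟩ := QuotientGroup.mk_surjective y
    obtain ⟨x, rfl⟩ := hp g
    exact ⟨x, hπ x⟩
  · intro y hy
    obtain ⟨z, hz, rfl⟩ := hker y hy
    rw [Subgroup.mem_center_iff]
    intro w
    obtain ⟨x, rfl⟩ := QuotientGroup.mk_surjective w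
    rw [← QuotientGroup.mk_mul, ← QuotientGroup.mk_mul, Subgroup.mem_center_iff.1 (hpc hz) x]
  · refine odd_card_of_pow hpo fun y => ?_
    obtain ⟨z, hz, hzy⟩ := hker y.1 y.2
    apply Subtype.ext
    show y.1 ^ _ = 1
    rw [← hzy, ← QuotientGroup.mk_pow]
    have h2 : (⟨z, hz⟩ : p.ker) ^ Nat.card p.ker = 1 := pow_card_eq_one'
    have h3 : z ^ Nat.card p.ker = 1 := congrArg Subtype.val h2
    rw [h3, QuotientGroup.mk_one]
  · rw [charDegree_congr (ψ := η) (by rw [← hβη, map_one])]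
    exact hΘo.2
  · intro τ hτ hτθ hτβ g
    obtain ⟨x, rfl⟩ := hp g
    have h2 := fix_ext M hΘ hΘM hΘo.1 hΘd hτ (fun y => by rw [← heM y, hΘι, hτθ])
    rw [hmul, map_mul, h2, ← hβη, hτβ]
  · intro s hsθ hsχ y hy
    obtain ⟨l, hlM, hl⟩ := exists_lin M hΘ hΘM (GaloisIrr.isIrr_map s hΘ)
      (fun y => by rw [← heM y, hΘι, hsθ])
    have h2 : ∀ x, η x = l x * s (η x) := by
      refine gall_inj M hΘ hΘM hηM (fun n g => ?_) fun g => ?_
      · rw [hηM, map_mul, hlM n n.2, one_mul]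
      · rw [← hmul, ← hsχ, hmul, map_mul, hl]
        ring
    have h3 : commutator (Δ ⧸ M) = (commutator Δ).map (QuotientGroup.mk' M) := by
      rw [map_commutator_eq, MonoidHom.range_eq_top_of_surjective _ (QuotientGroup.mk'_surjective M)]
      rfl
    rw [h3] at hy
    obtain ⟨x, hx, rfl⟩ := hy
    have h4 : l x = 1 := Abelianization.commutator_subset_ker l hx
    have h5 := h2 x
    rw [h4, Units.val_one, one_mul] at h5
    rw [hβη, ← h5]

/-- The `2`-part of a linear character. -/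
theorem exists_two_part (l : G →* ℂˣ) :
    ∃ (k a m : ℕ), Odd m ∧ (∀ g, (l g ^ k) ^ 2 ^ a = 1) ∧ ∀ g, ((l g ^ k)⁻¹ * l g) ^ m = 1 := by
  obtain ⟨a, m, hm, h⟩ := Nat.exists_eq_two_pow_mul_odd (Nat.card_pos (α := G)).ne'
  have hcop : (2 ^ a).Coprime m := Nat.Coprime.pow_left a (Nat.coprime_two_left.2 hm)
  obtain ⟨k, hk1, hk2⟩ := Nat.chineseRemainder hcop 1 0
  have h0 : ∀ g, l g ^ (2 ^ a * m) = 1 := fun g => by rw [← h, ← map_pow, pow_card_eq_one', map_one]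
  refine ⟨k, a, m, hm, fun g => ?_, fun g => ?_⟩
  · obtain ⟨j, rfl⟩ := (Nat.modEq_zero_iff_dvd.1 hk2)
    rw [← pow_mul, show m * j * 2 ^ a = 2 ^ a * m * j by ring, pow_mul, h0, one_pow]
  · have h1 : (l g ^ m) ^ k = (l g ^ m) ^ 1 :=
      pow_eq_pow_of_modEq hk1 (by rw [← pow_mul, mul_comm, h0])
    rw [mul_pow, inv_pow, ← pow_mul, mul_comm k, pow_mul, h1, pow_one, inv_mul_cancel]

/-- Twisting with a linear character of order at most two makes the order of the determinant odd. -/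
theorem exists_twist {χ : G → ℂ} (hχ : IsCharacter G χ) (ho : Odd (charDegree χ))
    (h : ∀ (k a : ℕ), (∀ g, (dH χ g ^ k) ^ 2 ^ a = 1) → ∀ g, (dH χ g ^ k) ^ 2 = 1) :
    ∃ δ : G →* ℂˣ, (∀ g, δ g ^ 2 = 1) ∧ OddDet (fun g => (δ g : ℂ) * χ g) := by
  obtain ⟨k, a, m, hm, h1, h2⟩ := exists_two_part (dH χ)
  have h3 := h k a h1
  refine ⟨(powMonoidHom k).comp (dH χ), h3, m, hm, fun g => ?_⟩
  rw [dH_lin _ hχ, ← h2 g]
  congr 2
  obtain ⟨j, hj⟩ := ho
  show (dH χ g ^ k) ^ _ = _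
  rw [hj, pow_succ, pow_mul, h3, one_pow, one_mul, eq_inv_iff_mul_eq_one, ← sq, h3]

theorem fix_sign {A : Type*} {δ : A → ℂˣ} (h : ∀ g, δ g ^ 2 = 1) (σ : ℂ ≃+* ℂ) (g : A) : σ (δ g) = δ g := by
  have h1 : (δ g : ℂ) ^ 2 = 1 := by rw [← Units.val_pow_eq_pow_val, h, Units.val_one]
  rcases sq_eq_one_iff.1 h1 with h2 | h2
  · rw [h2, map_one]
  · rw [h2, map_neg, map_one]

theorem fix_twist_iff {A : Type*} {δ : A → ℂˣ} (h : ∀ g, δ g ^ 2 = 1) (σ : ℂ ≃+* ℂ) (χ : A → ℂ) :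
    Fix σ (fun g => (δ g : ℂ) * χ g) ↔ Fix σ χ := by
  refine forall_congr' fun g => ?_
  rw [map_mul, fix_sign h]
  exact mul_right_inj' (Units.ne_zero _)

end Cfsg.Agent.ODD.Red
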