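import Cfsg.Agent.ODD.Red.Tri
import Mathlib.GroupTheory.SemidirectProduct

/-!
# ODD: the canonical extension to `X ⋊ A`

`X` is perfect, `A` a `2`-group of automorphisms of `X`, `ρ` an irreducible representation of odd degree with an
`A`-invariant character.
-/

set_option autoImplicit false
set_option maxHeartbeats 400000

namespace Cfsg.Agent.ODD.Red

open Cfsg Cfsg.Agent.Characters Cfsg.Agent.Characters.Core Module SemidirectProduct

universe u v

variable {X : Type u} [Group X] [Finite X] {V : Type v} [AddCommGroup V] [Module ℂ V] [FiniteDimensional ℂ V]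

/-- The semidirect product of `X` and the group of automorphisms `A`. -/
abbrev Sd (A : Subgroup (MulAut X)) : Type u := X ⋊[A.subtype] A

theorem finite_Sd (A : Subgroup (MulAut X)) : Finite (Sd A) :=
  Finite.of_equiv _ (SemidirectProduct.equivProd (φ := A.subtype)).symm

/-- **The canonical extension**: determinant one, and `inr (conj x)` acts as `inl x` for the `2`-elements `x`. -/
theorem exists_ext_sd (hX : commutator X = ⊤) (A : Subgroup (MulAut X)) (hA : IsPGroup 2 A)
    (ρ : Representation ℂ X V) (hρ : ρ.IsIrreducible) (ho : Odd (finrank ℂ V))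
    (hinv : ∀ a ∈ A, ∀ g : X, ρ.character (a g) = ρ.character g) :
    ∃ R : Representation ℂ (Sd A) V, (∀ x, R (inl x) = ρ x) ∧ (∀ y, LinearMap.det (R y) = 1) ∧
      ∀ (x : X) (hx : MulAut.conj x ∈ A) (k : ℕ), x ^ 2 ^ k = 1 → R (inr ⟨MulAut.conj x, hx⟩) = ρ x := by
  have := finite_Sd A
  let N : Subgroup (Sd A) := (inl : X →* Sd A).range
  have hN : N.Normal := by
    rw [show N = (rightHom : Sd A →* A).ker from range_inl_eq_ker_rightHom]
    infer_instance
  let e : X ≃* N := MonoidHom.ofInjective inl_injective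
  have he : ∀ y : N, (inl (e.symm y) : Sd A) = y := fun y => MonoidHom.apply_ofInjective_symm inl_injective y
  have he' : ∀ x : X, e.symm ⟨inl x, x, rfl⟩ = x := fun x => inl_injective (he _)
  let ρN : Representation ℂ N V := ρ.comp e.symm.toMonoidHom
  have hρN : ρN.IsIrreducible := by
    rw [CharDeep.LinearChar.isIrreducible_iff] at hρ ⊢
    refine ⟨hρ.1, fun W hW => hρ.2 W fun x v hv => ?_⟩
    have h1 := hW (e x) v hv
    change ρ (e.symm (e x)) v ∈ W at h1
    rwa [e.symm_apply_apply] at h1
  have hidx : N.index.Coprime (finrank ℂ V) := by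
    obtain ⟨k, hk⟩ := (IsPGroup.iff_card (p := 2)).1 hA
    rw [show N = (rightHom : Sd A →* A).ker from range_inl_eq_ker_rightHom, Subgroup.index_ker,
      MonoidHom.range_eq_top_of_surjective _ rightHom_surjective, Subgroup.card_top, hk]
    exact Nat.Coprime.pow_left k (Nat.coprime_two_left.2 ho)
  obtain ⟨R, h1, h2⟩ := CharDeep.ProjExt.exists_extension_of_det ρN hρN (fun g n => by
      change ρ.character (e.symm (MulAut.conjNormal g n)) = ρ.character (e.symm n)
      have h3 : e.symm (MulAut.conjNormal g n) = g.left * (g.right : MulAut X) (e.symm n) * g.left⁻¹ := by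
        apply inl_injective (φ := A.subtype)
        rw [he, MulAut.conjNormal_apply, ← he n, map_mul, map_mul, map_inv]
        have h4 := inl_aut (φ := A.subtype) g.right (e.symm n)
        rw [Subgroup.subtype_apply] at h4
        rw [h4, map_inv]
        conv_lhs => rw [← inl_left_mul_inr_right g]
        group
      rw [h3, Representation.char_conj, hinv _ g.right.2]) hidx 1 (fun n => by
      rw [MonoidHom.one_apply]
      have h3 : CharDeep.Twist.detHom ρ (e.symm n) = 1 :=
        Abelianization.commutator_subset_ker (CharDeep.Twist.detHom ρ) (by rw [hX]; trivial)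
      exact (congrArg Units.val h3).symm)
  have h3 : ∀ x, R (inl x) = ρ x := by
    intro x
    have h4 := h1 ⟨inl x, x, rfl⟩
    change R (inl x) = ρ (e.symm _) at h4
    rwa [he'] at h4
  refine ⟨R, h3, fun y => h2 y, fun x hx k hk => ?_⟩
  set a : A := ⟨MulAut.conj x, hx⟩ with ha
  have h4 : ∀ g : X, (inr a : Sd A) * inl g = inl (x * g * x⁻¹) * inr a := by
    intro g
    have h5 := inl_aut (φ := A.subtype) a g
    rw [map_inv] at h5
    have h6 : (inl (x * g * x⁻¹) : Sd A) = inr a * inl g * (inr a)⁻¹ := h5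
    rw [h6, inv_mul_cancel_right]
  set c : Sd A := (inl x)⁻¹ * inr a with hc
  have h5 : ∀ g : X, c * inl g = inl g * c := by
    intro g
    rw [hc, mul_assoc, h4, map_mul, map_mul, map_inv]
    group
  obtain ⟨z, hz⟩ := CharDeep.IrrEquiv.exists_smul_of_commute ρ hρ (R c) fun g => by
    rw [← h3, ← map_mul, ← map_mul, h5]
  have h6 : z ^ finrank ℂ V = 1 := by
    have h7 := h2 c
    rwa [hz, LinearMap.det_smul, map_one, mul_one] at h7
  have h7 : c ^ 2 ^ k = 1 := by
    have h8 : Commute ((inl x : Sd A)⁻¹) (inr a) := by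
      refine Commute.inv_left ?_
      show inl x * inr a = inr a * inl x
      rw [h4, mul_inv_cancel_right]
    have h9 : a ^ 2 ^ k = 1 := by
      apply Subtype.ext
      show MulAut.conj x ^ 2 ^ k = 1
      rw [← map_pow, hk, map_one]
    rw [hc, h8.mul_pow, inv_pow, ← map_pow, ← map_pow, hk, h9, map_one, map_one, inv_one, mul_one]
  have h8 : z ^ 2 ^ k = 1 := by
    have hV : Nontrivial V := ((CharDeep.LinearChar.isIrreducible_iff ρ).1 hρ).1
    have h9 : (R c) ^ 2 ^ k = 1 := by rw [← map_pow, h7, map_one]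
    rw [hz, smul_pow, one_pow] at h9
    obtain ⟨v, hv⟩ := exists_ne (0 : V)
    have h10 : (z ^ 2 ^ k) • v = (1 : ℂ) • v := by
      have := LinearMap.congr_fun h9 v
      simpa using this
    exact smul_left_injective ℂ hv h10
  have h9 := pow_gcd_eq_one.2 ⟨h8, h6⟩
  rw [(Nat.Coprime.pow_left k (Nat.coprime_two_left.2 ho)).gcd_eq_one, pow_one] at h9
  rw [h9, one_smul] at hz
  have h10 : (inr a : Sd A) = inl x * c := by rw [hc, mul_inv_cancel_left]
  rw [h10, map_mul, hz, mul_one, h3]

/-- The same without the semidirect product: an action `σ` of `A` on the space of `ρ`. -/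
theorem exists_act (hX : commutator X = ⊤) (A : Subgroup (MulAut X)) (hA : IsPGroup 2 A)
    (ρ : Representation ℂ X V) (hρ : ρ.IsIrreducible) (ho : Odd (finrank ℂ V))
    (hinv : ∀ a ∈ A, ∀ g : X, ρ.character (a g) = ρ.character g) :
    ∃ σ : Representation ℂ A V, (∀ (a : A) (g : X), σ a * ρ g = ρ ((a : MulAut X) g) * σ a) ∧
      (∀ a, LinearMap.det (σ a) = 1) ∧
      ∀ (x : X) (hx : MulAut.conj x ∈ A) (k : ℕ), x ^ 2 ^ k = 1 → σ ⟨MulAut.conj x, hx⟩ = ρ x := by
  obtain ⟨R, h1, h2, h3⟩ := exists_ext_sd hX A hA ρ hρ ho hinv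
  refine ⟨R.comp inr, fun a g => ?_, fun a => h2 _, h3⟩
  change R (inr a) * ρ g = ρ _ * R (inr a)
  have h5 := inl_aut (φ := A.subtype) a g
  rw [Subgroup.subtype_apply] at h5
  rw [← h1, ← h1, ← map_mul, ← map_mul, h5, map_inv, inv_mul_cancel_right]

end Cfsg.Agent.ODD.Red
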