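import Cfsg.Agent.ODD.Red.Cmp
import Cfsg.Agent.ODD.Cov.Basic
import Cfsg.Agent.S1260
import Cfsg.Agent.CharactersDeep.LinearExt
import Cfsg.Agent.H672.Ext

/-!
# ODD: S4787 (from left to right) from the rows
-/

set_option autoImplicit false
set_option maxHeartbeats 400000

namespace Cfsg.Agent.ODD.Red

open Cfsg Cfsg.Agent.Characters Cfsg.Agent.Characters.Core Subgroup
open Cfsg.Agent.Lib.MinNormal Cfsg.Agent.Lib.MinNormalNonabelian Cfsg.Agent.H643.Sd

universe u

/-- `QB` for all quasisimple groups with a centre of odd order (universe `0`). -/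
def AllQB : Prop :=
  ∀ (X : Type) [Group X] [Finite X], IsQuasisimple X → Odd (Nat.card (Subgroup.center X)) → QB X

theorem qb_all (h : AllQB) {X : Type u} [Group X] [Finite X] (hX : IsQuasisimple X)
    (hZ : Odd (Nat.card (center X))) : QB X := by
  let e : Shrink.{0} X ≃* X := Shrink.mulEquiv
  have : Finite (Shrink.{0} X) := Finite.of_equiv _ e.symm.toEquiv
  have h1 := S1260.isQuasisimple_of_mulEquiv e.symm hX
  refine Cv.qb_congr h1.1.commutator_eq_top e.symm (h _ h1 (odd_card_of_pow hZ fun z => ?_))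
  have h2 : e z ∈ center X := by
    rw [mem_center_iff]
    intro y
    obtain ⟨k, rfl⟩ := e.surjective y
    rw [← map_mul, ← map_mul, mem_center_iff.1 z.2 k]
  have h3 : (⟨_, h2⟩ : center X) ^ Nat.card (center X) = 1 := pow_card_eq_one'
  have h4 : e z ^ Nat.card (center X) = 1 := congrArg Subtype.val h3
  apply Subtype.ext
  apply e.injective
  rw [SubgroupClass.coe_pow, map_pow, h4, OneMemClass.coe_one, map_one]

variable {G : Type u} [Group G] [Finite G]

/-- Linear characters of `2`-power order. -/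
theorem sq_of_elem (hG : Elem G) (l : G →* ℂˣ) {a : ℕ} (h : ∀ g, l g ^ 2 ^ a = 1) (g : G) : l g ^ 2 = 1 := by
  have : Fact (Nat.Prime 2) := ⟨Nat.prime_two⟩
  obtain ⟨b, m, hm, hc⟩ := Nat.exists_eq_two_pow_mul_odd (Nat.card_pos (α := G)).ne'
  have h1 : IsPGroup 2 (zpowers (g ^ m)) := by
    rintro ⟨_, k, rfl⟩
    refine ⟨b, Subtype.ext ?_⟩
    show ((g ^ m) ^ k) ^ 2 ^ b = 1
    rw [← zpow_natCast, ← zpow_mul, mul_comm, zpow_mul, zpow_natCast, ← pow_mul, mul_comm, ← hc, pow_card_eq_one',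
      one_zpow]
  obtain ⟨P, hP⟩ := h1.exists_le_sylow
  have h3 : l (g ^ m) ^ 2 = 1 := hG P (l.comp (P : Subgroup G).subtype) ⟨g ^ m, hP (mem_zpowers _)⟩
  have h4 : (l g ^ 2) ^ m = 1 := by rw [← pow_mul, mul_comm, pow_mul, ← map_pow, h3]
  have h5 : (l g ^ 2) ^ 2 ^ a = 1 := by rw [← pow_mul, mul_comm, pow_mul, h, one_pow]
  have h6 := pow_gcd_eq_one.2 ⟨h5, h4⟩
  rwa [(Nat.Coprime.pow_left a (Nat.coprime_two_left.2 hm)).gcd_eq_one, pow_one] at h6

omit [Finite G] in
theorem Cmp.le_normalizer {N X : Subgroup G} (c : Cmp N X) : N ≤ normalizer (X : Set G) := by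
  intro n hn
  obtain ⟨a, ha, b, hb, rfl⟩ := c.gen n hn
  exact mul_mem (X.le_normalizer ha) (centralizer_le_normalizer _ hb)

/-- The Sylow subgroup `P ∩ X` of a component. -/
theorem Cmp.exists_sylow {N X : Subgroup G} [N.Normal] (c : Cmp N X) (P : Sylow 2 G) :
    ∃ Q : Sylow 2 X, ∀ x : X, x ∈ (Q : Subgroup X) ↔ (x : G) ∈ (P : Subgroup G) := by
  have : Fact (Nat.Prime 2) := ⟨Nat.prime_two⟩
  have h1 : (X.subgroupOf N).Normal := (normal_subgroupOf_iff_le_normalizer c.le).2 c.le_normalizer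
  refine ⟨(P.2.comap_subtype (K := X) : IsPGroup 2 ((P : Subgroup G).subgroupOf X)).toSylow fun h => ?_,
    fun x => Iff.rfl⟩
  have h2 : (P : Subgroup G).relIndex X ∣ (P : Subgroup G).relIndex N := by
    rw [← relIndex_subgroupOf c.le]
    exact relIndex_dvd_index _ _
  exact P.not_dvd_index ((h.trans h2).trans (relIndex_dvd_index _ _))

/-- The transfer argument: a linear character of the group of automorphisms of a component induced by `N_P(X)` is real
on the inner automorphisms. -/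
theorem Cmp.sq_inner {N X : Subgroup G} [N.Normal] (c : Cmp N X) {P : Subgroup G} (hP : Lin2 P)
    (ϕ : ((normalizer (X : Set G)).subgroupOf P) →* ℂˣ)
    (hϕ : ∀ q : ((normalizer (X : Set G)).subgroupOf P), ((q : P) : G) ∈ centralizer (X : Set G) → ϕ q = 1)
    (x : ((normalizer (X : Set G)).subgroupOf P)) (hx : ((x : P) : G) ∈ X) : ϕ x ^ 2 = 1 := by
  classical
  let Q := (normalizer (X : Set G)).subgroupOf P
  have hle : N.subgroupOf P ≤ Q := fun y hy => c.le_normalizer hy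
  obtain ⟨T⟩ : Nonempty Q.LeftTransversal := inferInstance
  have h1 := CharactersDeep.LinearExt.transfer_apply_of_mem_normal (N.subgroupOf P) Q hle ϕ (x : P) (c.le hx) T
  have h2 := hP (MonoidHom.transfer ϕ) (x : P)
  rw [h1, Finset.prod_eq_single ((1 : P) : P ⧸ Q)] at h2
  · have h3 : ((T.2.leftQuotientEquiv ((1 : P) : P ⧸ Q) : P) : P ⧸ Q) = ((1 : P) : P ⧸ Q) :=
      T.2.quotientGroupMk_leftQuotientEquiv _
    rw [QuotientGroup.eq, mul_one, inv_mem_iff] at h3
    have h4 : ϕ ((⟨_, h3⟩ : Q)⁻¹ * x * ⟨_, h3⟩) ^ 2 = 1 := h2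
    rwa [map_mul, map_mul, mul_right_comm, ← map_mul, inv_mul_cancel, map_one, one_mul] at h4
  · intro q _ hq
    have h3 : ((T.2.leftQuotientEquiv q : P) : P ⧸ Q) = q := T.2.quotientGroupMk_leftQuotientEquiv _
    refine hϕ _ ?_
    rcases c.conj ((T.2.leftQuotientEquiv q : P) : G)⁻¹ with h | h
    · exfalso
      apply hq
      rw [← h3, QuotientGroup.eq, mul_one]
      exact h
    · rw [mem_centralizer_iff]
      intro y hy
      have h4 := h _ hx y hy
      rw [inv_inv] at h4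
      exact h4.symm
  · intro h
    exact absurd (@Finset.mem_univ _ Q.fintypeQuotientOfFiniteIndex _) h

/-- One component. -/
theorem Cmp.fix (h : AllQB) {N X : Subgroup G} [N.Normal] (c : Cmp N X) (P : Sylow 2 G) (hP : Lin2 (P : Subgroup G))
    {θ : N → ℂ} (hθ : IsIrrCharacter N θ) (ho : Odd (charDegree θ))
    (hinv : ∀ g ∈ (P : Subgroup G), ∀ n : N, θ (MulAut.conjNormal g n) = θ n) {τ : ℂ ≃+* ℂ} (hτ : Two τ)
    (x : N) (hx : (x : G) ∈ X) : τ (θ x) = θ x := by
  have := Fintype.ofFinite X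
  let j : X →* N := inclusion c.le
  have hθc := isIrr_isCharacter hθ
  obtain ⟨η, hη, -⟩ := exists_OC_inv (X := fun y : X => θ (j y)) (isCharacter_comp' j hθc)
    (by rwa [charDegree_congr (ψ := θ) (by rw [map_one])]) (Γ := (⊥ : Subgroup G)) IsPGroup.of_bot 1
    (fun _ _ => rfl)
  obtain ⟨e, he, hee⟩ := hη.2.2
  have h1 : θ ∘ j = classInner (θ ∘ j) η • η := by
    refine H672.comp_eq_smul_of_invariant_hom j (inclusion_injective c.le) ?_ hθ hη.1 ?_ hη.ne_zero
    · rw [inclusion_range]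
      exact (normal_subgroupOf_iff_le_normalizer c.le).2 c.le_normalizer
    · intro k y y' hy
      obtain ⟨a, ha, b, hb, hk⟩ := c.gen k k.2
      have h2 : (y' : G) = k * y * (k : G)⁻¹ := congrArg Subtype.val hy
      have h3 : y' = (⟨a, ha⟩ : X) * y * (⟨a, ha⟩ : X)⁻¹ := by
        apply Subtype.ext
        show (y' : G) = a * y * a⁻¹
        rw [h2, hk, mul_inv_rev, mul_assoc a b, ← mem_centralizer_iff.1 hb y y.2]
        group
      obtain ⟨n, ρ, -, rfl⟩ := hη.1
      rw [h3]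
      exact Representation.char_conj ρ _ _
  have h2 : ∀ y : X, θ (j y) = e * η y := by
    intro y
    have h3 := congrFun h1 y
    have h4 : classInner (θ ∘ j) η = e := hee
    rw [h4] at h3
    exact h3
  have he0 : (e : ℂ) ≠ 0 := by exact_mod_cast he.pos.ne'
  suffices h3 : Rat2 η by
    have h4 := h2 ⟨x, hx⟩
    have h5 : j ⟨x, hx⟩ = x := rfl
    rw [h5] at h4
    rw [h4, map_mul, map_natCast, h3 τ hτ]
  by_contra hcon
  obtain ⟨Q, hQ⟩ := c.exists_sylow P
  let R : Subgroup (P : Subgroup G) := (normalizer (X : Set G)).subgroupOf P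
  let φ : R →* MulAut X := X.normalizerMonoidHom.comp
    (((P : Subgroup G).subtype.comp R.subtype).codRestrict (normalizer (X : Set G)) fun q => q.2)
  have hφ : ∀ (q : R) (y : X), ((φ q y : X) : G) = ((q : (P : Subgroup G)) : G) * y * ((q : (P : Subgroup G)) : G)⁻¹ :=
    fun q y => rfl
  have hin : ∀ (y : X) (hy : y ∈ (Q : Subgroup X)),
      φ ⟨⟨y, (hQ y).1 hy⟩, X.le_normalizer y.2⟩ = MulAut.conj y := fun y hy =>
    MulEquiv.ext fun z => Subtype.ext rfl
  have ctx : Ctx Q φ.range :=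
    { isP := (P.2.to_subgroup R).of_surjective φ.rangeRestrict φ.rangeRestrict_surjective
      inner := fun y hy => ⟨_, hin y hy⟩
      stab := by
        rintro _ ⟨q, rfl⟩ y hy
        rw [hQ, hφ]
        exact mul_mem (mul_mem q.1.2 ((hQ y).1 hy)) (inv_mem q.1.2) }
  obtain ⟨f, y, hy, hf⟩ := qb_all h c.qs c.odd Q φ.range ctx η hη.1 hη.2.1 (by
    rintro _ ⟨q, rfl⟩ z
    apply mul_left_cancel₀ he0
    rw [← h2, ← h2, ← hinv _ q.1.2 (j z)]
    rfl) hcon
  apply hf
  have h3 := c.sq_inner hP (f.comp φ.rangeRestrict) (fun q hq => by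
    have h4 : φ.rangeRestrict q = 1 := by
      apply Subtype.ext
      refine MulEquiv.ext fun z => Subtype.ext ?_
      show ((φ q z : X) : G) = z
      rw [hφ, ← mem_centralizer_iff.1 hq z z.2, mul_inv_cancel_right]
    rw [MonoidHom.comp_apply, h4, map_one]) ⟨⟨y, (hQ y).1 hy⟩, X.le_normalizer y.2⟩ y.2
  have h4 : φ.rangeRestrict ⟨⟨y, (hQ y).1 hy⟩, X.le_normalizer y.2⟩ = ⟨MulAut.conj y, ctx.inner y hy⟩ :=
    Subtype.ext (hin y hy)
  rwa [MonoidHom.comp_apply, h4] at h3

/-- All components. -/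
theorem rat2_of_cmp {N C : Subgroup G} (hC : C ≤ center G) (hodd : Odd (Nat.card C)) {s : Set (Subgroup G)}
    (h1 : ∀ X ∈ s, Cmp N X) (h2 : ∀ X ∈ s, ∀ Y ∈ s, X ≠ Y → Y ≤ centralizer (X : Set G)) (h3 : N ≤ C ⊔ sSup s)
    {θ : N → ℂ} (hθ : IsIrrCharacter N θ) {τ : ℂ ≃+* ℂ} (hτ : Two τ)
    (h4 : ∀ X ∈ s, ∀ x : N, (x : G) ∈ X → τ (θ x) = θ x) : Fix τ θ := by
  have hθc := isIrr_isCharacter hθ
  have h0 : θ 1 ≠ 0 := isIrr_apply_one_ne_zero hθ
  have hone : τ (θ 1) = θ 1 := by rw [apply_one hθc, map_natCast]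
  have key : ∀ t : Set (Subgroup G), t.Finite → t ⊆ s → ∀ n : N, (n : G) ∈ C ⊔ sSup t → τ (θ n) = θ n := by
    intro t ht
    induction t, ht using Set.Finite.induction_on with
    | empty =>
      intro _ n hn
      rw [sSup_empty, sup_bot_eq] at hn
      obtain ⟨z, h5, h6, -⟩ := exists_central hθ (z := n)
        (mem_center_iff.2 fun y => Subtype.ext (mem_center_iff.1 (hC hn) y))
      have h7 : (⟨_, hn⟩ : C) ^ Nat.card C = 1 := pow_card_eq_one'
      have h8 : (n : G) ^ Nat.card C = 1 := congrArg Subtype.val h7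
      have h9 := h5 1
      rw [mul_one] at h9
      rw [h9, map_mul, hone, hτ _ z hodd (h6 _ (Subtype.ext h8))]
    | @insert X t hX _ ih =>
      intro hsub n hn
      have hXs : X ∈ s := hsub (Set.mem_insert _ _)
      have hts : t ⊆ s := (Set.subset_insert _ _).trans hsub
      have c := h1 X hXs
      have hB : C ⊔ sSup t ≤ centralizer (X : Set G) :=
        sup_le (hC.trans (center_le_centralizer _))
          (sSup_le fun Y hY => h2 X hXs Y (hts hY) fun h => hX (h ▸ hY))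
      rw [sSup_insert, sup_left_comm] at hn
      obtain ⟨a, ha, b, hb, hab⟩ := mem_sup_of_comm hB hn
      have hbN : b ∈ N := by
        have h5 : b = a⁻¹ * n := by rw [hab, inv_mul_cancel_left]
        rw [h5]
        exact mul_mem (inv_mem (c.le ha)) n.2
      have h5 : n = (⟨a, c.le ha⟩ : N) * ⟨b, hbN⟩ := Subtype.ext hab
      have h6 := mul_formula hθ (a := ⟨a, c.le ha⟩) (b := ⟨b, hbN⟩) fun y => by
        obtain ⟨a', ha', d, hd, hy⟩ := c.gen y y.2
        refine ⟨⟨a', c.le ha'⟩, Subtype.ext ?_⟩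
        show (y : G) * a * (y : G)⁻¹ * b = a' * (a * b) * a'⁻¹
        have h7 := mem_centralizer_iff.1 hd a ha
        have h8 := mem_centralizer_iff.1 (hB hb) _ (inv_mem ha')
        rw [hy, mul_inv_rev, mul_assoc a' d, ← h7]
        calc a' * (a * d) * (d⁻¹ * a'⁻¹) * b = a' * a * (a'⁻¹ * b) := by group
          _ = a' * (a * b) * a'⁻¹ := by rw [h8]; group
      rw [← h5] at h6
      have h7 := congrArg τ h6
      rw [map_mul, map_mul, hone, h4 X hXs ⟨a, c.le ha⟩ ha, ih hts ⟨b, hbN⟩ hb, ← h6] at h7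
      exact mul_right_cancel₀ h0 h7
  exact fun n => key s (Set.toFinite s) subset_rfl n (h3 n.2)

omit [Group G] [Finite G] in
theorem rat2_of_elem_aux (h : AllQB) (n : ℕ) : ∀ (G : Type u) [Group G] [Finite G] (C : Subgroup G),
    C ≤ center G → Odd (Nat.card C) → C.index = n → Elem G →
    ∀ χ : G → ℂ, IsIrrCharacter G χ → Odd (charDegree χ) → Rat2 χ := by
  induction n using Nat.strong_induction_on with
  | _ n ih =>
  intro G _ _ C hC hodd hn hG
  have : Fact (Nat.Prime 2) := ⟨Nat.prime_two⟩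
  suffices key : ∀ χ : G → ℂ, IsIrrCharacter G χ → Odd (charDegree χ) → OddDet χ → Rat2 χ by
    intro χ hχ ho
    obtain ⟨δ, hδ, hd⟩ := exists_twist (isIrr_isCharacter hχ) ho fun k a h1 g =>
      sq_of_elem hG ((powMonoidHom k).comp (dH χ)) h1 g
    have h1 := key _ (isIrr_lin_mul δ hχ) (by rwa [charDegree_congr (ψ := χ) (by simp)]) hd
    exact fun τ hτ => (fix_twist_iff hδ τ χ).1 (h1 τ hτ)
  intro χ hχ ho hd
  by_cases hC1 : C = ⊤
  · exact rat2_of_odd (by rwa [hC1, card_top] at hodd) (isIrr_isCharacter hχ)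
  have hCn : C.Normal := ⟨fun z hz g => by rwa [mem_center_iff.1 (hC hz) g, mul_inv_cancel_right]⟩
  let π : G →* G ⧸ C := QuotientGroup.mk' C
  have hπ : Function.Surjective π := QuotientGroup.mk'_surjective C
  have hker : π.ker = C := QuotientGroup.ker_mk' C
  have hnt : (⊤ : Subgroup (G ⧸ C)) ≠ ⊥ := by
    intro h1
    apply hC1
    rw [← hker, ← MonoidHom.comap_bot, ← h1, comap_top]
  obtain ⟨M, -, hM0, hMn, hMm⟩ := exists_minimal_normal_le (⊤ : Subgroup (G ⧸ C)) hnt
  have hM : M.Normal := normalizer_eq_top_iff.1 (eq_top_iff.2 hMn)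
  have hmin : ∀ K : Subgroup (G ⧸ C), K.Normal → K ≤ M → K = ⊥ ∨ K = M := fun K hK hKM =>
    hMm K hKM (normalizer_eq_top_iff.2 hK).ge
  let N := M.comap π
  have hN : N.Normal := hM.comap π
  have hCN : C ≤ N := fun z hz => by
    have h1 : π z = 1 := (QuotientGroup.eq_one_iff z).2 hz
    show π z ∈ M
    rw [h1]
    exact one_mem M
  have := Fintype.ofFinite N
  obtain ⟨P⟩ : Nonempty (Sylow 2 G) := inferInstance
  obtain ⟨θ, hθ, hinv⟩ := exists_OC_inv (X := fun n : N => χ n)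
    (Clifford.isCharacter_restrict N (isIrr_isCharacter hχ))
    (by rwa [charDegree_congr (ψ := χ) (by simp)]) P.2 (MulAut.conjNormal.comp (P : Subgroup G).subtype)
    (fun g n => by
      obtain ⟨d, ρ, -, rfl⟩ := hχ
      exact Representation.char_conj ρ _ _)
  have hθ2 : Rat2 θ := by
    by_cases hab : ∀ x ∈ M, ∀ y ∈ M, Commute x y
    · obtain ⟨p, hp, -, hpow⟩ := abelian_structure M hM0 hmin hab
      have hk : ∀ x : N, (x ^ p) ^ Nat.card C = 1 := by
        intro x
        have h1 : (x : G) ^ p ∈ C := by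
          rw [← hker, MonoidHom.mem_ker, map_pow]
          exact hpow _ x.2
        have h2 : (⟨_, h1⟩ : C) ^ Nat.card C = 1 := pow_card_eq_one'
        have h3 : ((x : G) ^ p) ^ Nat.card C = 1 := congrArg Subtype.val h2
        exact Subtype.ext h3
      rcases hp.eq_two_or_odd' with h2 | h2
      · refine rat2_of_exponent hodd (fun x => ?_) (isIrr_isCharacter hθ.1)
        rw [pow_mul, ← h2, hk]
      · refine rat2_of_exponent (h2.mul hodd) (fun x => ?_) (isIrr_isCharacter hθ.1)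
        rw [mul_comm, pow_mul, pow_mul, hk, one_pow]
    · obtain ⟨s, h1, h2, h3⟩ := exists_cmp hπ (hker.le.trans hC) (by rw [hker]; exact hodd) M hmin hab
      rw [hker] at h3
      exact fun τ hτ => rat2_of_cmp hC hodd h1 h2 h3 hθ.1 hτ fun X hX x hx =>
        (h1 X hX).fix h P (hG P) hθ.1 hθ.2.1 (fun g hg n => hinv ⟨g, hg⟩ n) hτ x hx
  obtain ⟨T, ψ, hT, hNT, hTi, hψ, hψo, h1, -⟩ := cliff N hχ ho hθ.1 hθ.ne_zero
  have hpos : 0 < n := by rw [← hn]; exact Nat.pos_of_ne_zero index_ne_zero_of_finite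
  by_cases hTt : T = ⊤
  · have hinv' : ∀ (g : G) (n : N), θ (MulAut.conjNormal g n) = θ n := fun g => (hT g).1 (hTt ▸ mem_top g)
    obtain ⟨e, he⟩ := exists_restrict N hχ hθ.1 hinv' hθ.ne_zero
    obtain ⟨H, _, _, ρ, β, hρ, hc, hodd', hβ, hβo, h3, -⟩ := tri N hχ ho hd hθ.1 hinv' he
    have h4 : ρ.ker.index < n := by
      rw [index_ker, MonoidHom.range_eq_top_of_surjective ρ hρ, card_top, ← index_eq_card, ← hn,
        ← relIndex_mul_index hCN]
      refine lt_mul_of_one_lt_left (Nat.pos_of_ne_zero index_ne_zero_of_finite) ?_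
      refine lt_of_le_of_ne (Nat.one_le_iff_ne_zero.2 index_ne_zero_of_finite) fun h5 => hM0 ?_
      have h6 : N ≤ C := relIndex_eq_one.1 h5.symm
      rw [eq_bot_iff]
      intro y hy
      obtain ⟨g, rfl⟩ := hπ y
      exact mem_bot.2 ((QuotientGroup.eq_one_iff g).2 (h6 hy))
    have h5 : Elem H := elem_of_odd_normal ρ.ker hodd'
      ((hG.quotient N).congr (QuotientGroup.quotientKerEquivOfSurjective ρ hρ).symm)
    have h6 := ih _ h4 H ρ.ker hc hodd' rfl h5 β hβ hβo
    exact fun τ hτ => h3 τ hτ (hθ2 τ hτ) (h6 τ hτ)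
  · have h4 : (C.subgroupOf T).index < n := by
      rw [← hn, ← relIndex_mul_index (hCN.trans hNT)]
      refine lt_mul_of_one_lt_right (Nat.pos_of_ne_zero index_ne_zero_of_finite) ?_
      exact lt_of_le_of_ne (Nat.one_le_iff_ne_zero.2 index_ne_zero_of_finite) fun h5 => hTt (index_eq_one.1 h5.symm)
    have h5 := ih _ h4 T (C.subgroupOf T)
      (fun z hz => mem_center_iff.2 fun y => Subtype.ext (mem_center_iff.1 (hC hz) y))
      (by rwa [Nat.card_congr (subgroupOfEquivOfLe (hCN.trans hNT)).toEquiv]) rfl (hG.of_odd_index T hTi) ψ hψ hψo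
    exact fun τ hτ => h1 τ (h5 τ hτ)

/-- **S4787, from left to right, from the rows**, Galois wording. -/
theorem rat2_of_elem (h : AllQB) (hG : Elem G) {χ : G → ℂ} (hχ : IsIrrCharacter G χ) (ho : Odd (charDegree χ)) :
    Rat2 χ :=
  rat2_of_elem_aux h _ G ⊥ bot_le (by rw [card_bot]; exact odd_one) rfl hG χ hχ ho

/-- **S4787** from the rows and the converse (`hSD`). -/
theorem s4787_of (h : AllQB)
    (hSD : ¬ Elem G → ∃ χ : G → ℂ, IsIrrCharacter G χ ∧ Odd (charDegree χ) ∧ ¬ Rat2 χ) (P : Sylow 2 G) :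
    (∀ x ∈ (P : Subgroup G), x ^ 2 ∈ ⁅(P : Subgroup G), (P : Subgroup G)⁆) ↔
      ∀ χ : IrrCharacter G, Odd (charDegree (χ : G → ℂ)) → Rat2F (χ : G → ℂ) := by
  constructor
  · intro h1 χ ho
    rw [rat2F_iff (isIrr_isCharacter χ.2)]
    exact rat2_of_elem h (elem_of_sylow P (lin2_of_mem h1)) χ.2 ho
  · intro h1 x hx
    by_contra hcon
    obtain ⟨χ, h2, h3, h4⟩ := hSD fun h5 => hcon (sq_mem_comm (h5 P) hx)
    exact h4 (h1 ⟨χ, h2⟩ h3).rat2

end Cfsg.Agent.ODD.Red
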