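import Cfsg.Agent.ODD.Red.A89
import Mathlib.NumberTheory.GaussSum
import Mathlib.NumberTheory.LegendreSymbol.QuadraticChar.GaussSum
import Mathlib.Analysis.SpecialFunctions.Complex.CircleAddChar

/-!
# ODD: S4788 from S4786
-/

set_option autoImplicit false
set_option maxHeartbeats 400000

namespace Cfsg.Agent.ODD.Red

open Cfsg Cfsg.Agent.Characters Cfsg.Agent.Characters.Core

universe u

/-- A `2`-rational number is fixed by an automorphism with any prescribed action on the roots of unity of order `2 ^ a`. -/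
theorem exists_fix_pow {y : ℂ} (hy : IsAlgebraic ℚ y) (h : ∀ τ, Two τ → τ y = y) (a : ℕ) {k : ℕ} (hk : Odd k) :
    ∃ σ : ℂ ≃+* ℂ, σ y = y ∧ ∀ z : ℂ, z ^ 2 ^ a = 1 → σ z = z ^ k := by
  obtain ⟨m, hm, hym⟩ := exists_cyc_of_two hy h
  have hcop : (2 ^ (a + 1)).Coprime m := Nat.Coprime.pow_left _ (Nat.coprime_two_left.2 hm)
  obtain ⟨j, hj1, hj2⟩ := Nat.chineseRemainder hcop k 1
  have hj : j.Coprime (2 ^ a * m) := by
    refine Nat.Coprime.mul_right ?_ ?_
    · refine Nat.Coprime.pow_right _ (Nat.coprime_two_right.2 ?_)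
      have h1 : j ≡ k [MOD 2] := hj1.of_dvd (dvd_pow_self 2 (Nat.succ_ne_zero a))
      rw [Nat.odd_iff] at hk ⊢
      exact Eq.trans h1 hk
    · rw [Nat.Coprime, hj2.gcd_eq]
      exact Nat.gcd_one_left m
  obtain ⟨σ, hσ⟩ := GaloisBasic.exists_ringEquiv_pow (n := 2 ^ a * m)
    (mul_ne_zero (pow_ne_zero _ two_ne_zero) hm.pos.ne') hj
  refine ⟨σ, (mem_cyc_iff hm.pos.ne' hy).1 hym σ fun x hx => ?_, fun z hz => ?_⟩
  · rw [hσ x (by rw [mul_comm, pow_mul, hx, one_pow]), pow_eq_pow_of_modEq hj2 hx, pow_one]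
  · rw [hσ z (by rw [pow_mul, hz, one_pow])]
    exact pow_eq_pow_of_modEq (hj1.of_dvd (pow_dvd_pow 2 a.le_succ)) hz

/-- Gauss sums. -/
theorem exists_sqrt_prime (p : ℕ) (hp : p.Prime) (h2 : p ≠ 2) :
    ∃ y : ℂ, y ^ 2 = (ZMod.χ₄ p : ℤ) * p ∧ ∀ τ, Two τ → τ y = y := by
  have : Fact p.Prime := ⟨hp⟩
  have hc : ringChar (ZMod p) ≠ 2 := by rwa [ZMod.ringChar_zmod_n]
  let χ : MulChar (ZMod p) ℂ := (quadraticChar (ZMod p)).ringHomComp (Int.castRingHom ℂ)
  have h1 : χ ≠ 1 := (MulChar.ringHomComp_ne_one_iff (RingHom.injective_int _)).2 (quadraticChar_ne_one hc)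
  have h3 : χ.IsQuadratic := (quadraticChar_isQuadratic (ZMod p)).comp _
  refine ⟨gaussSum χ ZMod.stdAddChar, ?_, fun τ hτ => ?_⟩
  · rw [gaussSum_sq h1 h3 (ZMod.isPrimitive_stdAddChar p), ZMod.card]
    congr 1
    show ((quadraticChar (ZMod p) (-1) : ℤ) : ℂ) = _
    rw [quadraticChar_neg_one hc, ZMod.card]
  · rw [gaussSum, map_sum]
    refine Finset.sum_congr rfl fun a _ => ?_
    rw [map_mul, hτ p (ZMod.stdAddChar a) (hp.odd_of_ne_two h2) (by
      rw [← AddChar.map_nsmul_eq_pow, nsmul_eq_mul, ZMod.natCast_self, zero_mul, AddChar.map_zero_eq_one])]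
    congr 1
    exact map_intCast τ _

theorem exists_sqrt_odd (n : ℕ) (hn : Odd n) :
    ∃ y : ℂ, y ^ 2 = (ZMod.χ₄ n : ℤ) * n ∧ ∀ τ, Two τ → τ y = y := by
  induction n using induction_on_primes with
  | zero => exact absurd hn (by decide)
  | one => exact ⟨1, by simp, fun τ _ => map_one τ⟩
  | prime_mul p a hp ih =>
    obtain ⟨h1, h2⟩ := Nat.odd_mul.1 hn
    obtain ⟨y, hy, hy'⟩ := ih h2
    obtain ⟨x, hx, hx'⟩ := exists_sqrt_prime p hp (by rintro rfl; exact absurd h1 (by decide))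
    refine ⟨x * y, ?_, fun τ hτ => by rw [map_mul, hx' τ hτ, hy' τ hτ]⟩
    rw [mul_pow, hx, hy]
    push_cast
    rw [map_mul]
    push_cast
    ring

theorem isAlgebraic_of_sq {w : ℂ} {c : ℤ} (h : w ^ 2 = c) : IsAlgebraic ℚ w := by
  have : IsIntegral ℚ w := by
    refine IsIntegral.of_pow two_pos ?_
    rw [h, ← map_intCast (algebraMap ℚ ℂ)]
    exact isIntegral_algebraMap
  exact this.isAlgebraic

theorem not_sq_neg_one {w : ℂ} (h : w ^ 2 = -1) : ¬ ∀ τ, Two τ → τ w = w := by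
  intro h1
  obtain ⟨τ, hτ, h2⟩ := exists_two_neg_I
  have h3 := h1 τ hτ
  rw [← Complex.I_sq] at h
  rcases sq_eq_sq_iff_eq_or_eq_neg.1 h with rfl | rfl
  · exact I_ne_neg_I (h3.symm.trans h2)
  · rw [map_neg, h2, neg_neg] at h3
    exact I_ne_neg_I h3

theorem not_sq_two {w : ℂ} (h : w ^ 2 = 2 ∨ w ^ 2 = -2) : ¬ ∀ τ, Two τ → τ w = w := by
  intro h1
  have halg : IsAlgebraic ℚ w := by
    rcases h with h | h
    · exact isAlgebraic_of_sq (c := 2) (by rw [h]; norm_num)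
    · exact isAlgebraic_of_sq (c := -2) (by rw [h]; norm_num)
  obtain ⟨σ, h2, h3⟩ := exists_fix_pow halg h1 3 (k := 5) (by decide)
  obtain ⟨ζ, hζ⟩ := IsAlgClosed.exists_pow_nat_eq (-1 : ℂ) (n := 4) (by norm_num)
  have h4 : σ ζ = -ζ := by
    rw [h3 ζ (by linear_combination (ζ ^ 4 - 1) * hζ)]
    linear_combination ζ * hζ
  have h0 : w ≠ 0 := by
    rintro rfl
    rcases h with h | h <;> norm_num at h
  have h5 : σ w = -w := by
    rcases h with h | h
    · have h6 : w ^ 2 = (ζ - ζ ^ 3) ^ 2 := by rw [h]; linear_combination (2 - ζ ^ 2) * hζ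
      rcases sq_eq_sq_iff_eq_or_eq_neg.1 h6 with h7 | h7
      · rw [h7, map_sub, map_pow, h4]; ring
      · rw [h7, map_neg, map_sub, map_pow, h4]; ring
    · have h6 : w ^ 2 = (ζ + ζ ^ 3) ^ 2 := by rw [h]; linear_combination (-2 - ζ ^ 2) * hζ
      rcases sq_eq_sq_iff_eq_or_eq_neg.1 h6 with h7 | h7
      · rw [h7, map_add, map_pow, h4]; ring
      · rw [h7, map_neg, map_add, map_pow, h4]; ring
  apply h0
  linear_combination (h2.symm.trans h5) / 2

/-- A `2`-rational square root of `ε d`, `d` squarefree. -/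
theorem chi_of_sq {α : ℂ} {d : ℕ} (hsq : Squarefree d) {ε : ℤ} (hε : ε = 1 ∨ ε = -1) (hα : α ^ 2 = ε * d)
    (h : ∀ τ, Two τ → τ α = α) : ZMod.χ₄ d = ε := by
  have key : ∀ (n : ℕ) (c : ℂ), Odd n → α ^ 2 = ε * (c * n) →
      ∃ w : ℂ, w ^ 2 = ε * (ZMod.χ₄ n : ℤ) * c ∧ (ZMod.χ₄ n = 1 ∨ ZMod.χ₄ n = -1) ∧ ∀ τ, Two τ → τ w = w := by
    intro n c hn h1
    obtain ⟨y, hy, hy'⟩ := exists_sqrt_odd n hn
    have h2 : ZMod.χ₄ n = 1 ∨ ZMod.χ₄ n = -1 := by
      rcases Nat.odd_mod_four_iff.1 (Nat.odd_iff.1 hn) with h3 | h3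
      · exact .inl (ZMod.χ₄_nat_one_mod_four h3)
      · exact .inr (ZMod.χ₄_nat_three_mod_four h3)
    have hn0 : (n : ℂ) ≠ 0 := by exact_mod_cast hn.pos.ne'
    refine ⟨α / y, ?_, h2, fun τ hτ => by rw [map_div₀, h τ hτ, hy' τ hτ]⟩
    rw [div_pow, h1, hy]
    rcases h2 with h2 | h2 <;> rw [h2] <;> push_cast <;> field_simp
  rcases Nat.even_or_odd d with hd | hd
  · exfalso
    obtain ⟨n, rfl⟩ := hd.two_dvd
    have hn : Odd n := by
      by_contra hcon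
      obtain ⟨j, rfl⟩ := (Nat.not_odd_iff_even.1 hcon).two_dvd
      have h1 := hsq 2 ⟨j, by ring⟩
      rw [Nat.isUnit_iff] at h1
      omega
    obtain ⟨w, h1, h2, h3⟩ := key n 2 hn (by rw [hα]; push_cast; ring)
    refine not_sq_two ?_ h3
    rcases hε with rfl | rfl <;> rcases h2 with h2 | h2 <;> rw [h1, h2] <;> norm_num
  · obtain ⟨w, h1, h2, h3⟩ := key d 1 hd (by rw [hα, one_mul])
    by_contra hcon
    refine not_sq_neg_one ?_ h3
    rcases hε with rfl | rfl <;> rcases h2 with h2 | h2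
    · exact absurd h2 hcon
    · rw [h1, h2]; norm_num
    · rw [h1, h2]; norm_num
    · exact absurd h2 hcon

theorem mod_four_of_chi {d : ℕ} : (ZMod.χ₄ d = 1 → d % 4 = 1) ∧ (ZMod.χ₄ d = -1 → d % 4 = 3) := by
  rw [ZMod.χ₄_nat_eq_if_mod_four]
  constructor <;> intro h <;> split_ifs at h <;> omega

/-- **S4788**, the wording of the statement. -/
theorem s4788_of (h : AllQA) {G : Type u} [Group G] [Finite G] (χ : IrrCharacter G)
    (hodd : Odd (charDegree (χ : G → ℂ))) (d : ℕ) (hd : 1 < d) (hsq : Squarefree d) :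
    ((IntermediateField.adjoin ℚ (Set.range (χ : G → ℂ)) : IntermediateField ℚ ℂ) =
        IntermediateField.adjoin ℚ ({((Real.sqrt d : ℝ) : ℂ)} : Set ℂ) → d % 4 = 1) ∧
      ((IntermediateField.adjoin ℚ (Set.range (χ : G → ℂ)) : IntermediateField ℚ ℂ) =
        IntermediateField.adjoin ℚ ({Complex.I * ((Real.sqrt d : ℝ) : ℂ)} : Set ℂ) → d % 4 = 3) := by
  have hr : ((Real.sqrt d : ℝ) : ℂ) ^ 2 = d := by
    rw [← Complex.ofReal_pow, Real.sq_sqrt (Nat.cast_nonneg d), Complex.ofReal_natCast]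
  have key : ∀ α : ℂ, (IntermediateField.adjoin ℚ (Set.range (χ : G → ℂ)) : IntermediateField ℚ ℂ) =
      IntermediateField.adjoin ℚ ({α} : Set ℂ) → (∃ s : ℂ ≃+* ℂ, s Complex.I = -Complex.I ∧ s α = α) →
      ∀ τ, Two τ → τ α = α := by
    rintro α h1 ⟨s, hs, hsα⟩ τ hτ
    have h2 : Fix s (χ : G → ℂ) := fun g => fixed_of_mem_adjoin (S := {α}) (by rintro _ rfl; exact hsα)
      (h1 ▸ IntermediateField.subset_adjoin ℚ _ ⟨g, rfl⟩)
    have h3 := rat2_of_fix h χ.2 hodd hs h2 τ hτ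
    exact fixed_of_mem_adjoin (S := Set.range (χ : G → ℂ)) (by rintro _ ⟨g, rfl⟩; exact h3 g)
      (h1 ▸ IntermediateField.mem_adjoin_simple_self ℚ α)
  constructor
  · intro h1
    refine mod_four_of_chi.1 (chi_of_sq hsq (.inl rfl) (by rw [hr]; simp) (key _ h1 ?_))
    exact ⟨Complex.conjAe.toRingEquiv, Complex.conj_I, Complex.conj_ofReal _⟩
  · intro h1
    refine mod_four_of_chi.2 (chi_of_sq hsq (.inr rfl) (by rw [mul_pow, hr, Complex.I_sq]; simp) (key _ h1 ?_))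
    by_contra hcon
    have h2 : ∀ σ : ℂ ≃+* ℂ, σ ((Real.sqrt d : ℝ) : ℂ) = ((Real.sqrt d : ℝ) : ℂ) := by
      have h3 : ∀ s : ℂ ≃+* ℂ, s Complex.I = -Complex.I → s ((Real.sqrt d : ℝ) : ℂ) = ((Real.sqrt d : ℝ) : ℂ) := by
        intro s hs
        have h4 : s ((Real.sqrt d : ℝ) : ℂ) ^ 2 = ((Real.sqrt d : ℝ) : ℂ) ^ 2 := by
          rw [← map_pow, hr, map_natCast]
        refine (sq_eq_sq_iff_eq_or_eq_neg.1 h4).resolve_right fun h5 => hcon ⟨s, hs, ?_⟩
        rw [map_mul, hs, h5, neg_mul_neg]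
      intro σ
      rcases map_I σ with h4 | h4
      · have h5 := h3 (Complex.conjAe.toRingEquiv.trans σ) (by
          show σ (starRingEnd ℂ Complex.I) = _
          rw [Complex.conj_I, map_neg, h4])
        have h6 : σ (starRingEnd ℂ ((Real.sqrt d : ℝ) : ℂ)) = _ := h5
        rwa [Complex.conj_ofReal] at h6
      · exact h3 σ h4
    obtain ⟨q, hq⟩ := GaloisBasic.exists_rat_of_forall_ringEquiv
      (isAlgebraic_of_sq (c := d) (by rw [hr]; simp)).isIntegral h2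
    have h3 : Irrational (Real.sqrt d) := by
      rw [irrational_sqrt_natCast_iff]
      rintro ⟨j, rfl⟩
      have h4 := hsq j dvd_rfl
      rw [Nat.isUnit_iff] at h4
      rw [h4] at hd
      exact lt_irrefl _ hd
    exact h3 ⟨q, by exact_mod_cast hq.symm⟩

end Cfsg.Agent.ODD.Red
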