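import Cfsg.Agent.ODD.Defs
import Cfsg.Agent.ODD.Red.Cl
import Cfsg.Agent.H831.GenFit
import Cfsg.Agent.H438.MaxOrders
import Cfsg.Agent.S1258

/-!
# ODD: S4789 from the rows, S4786 from S4789
-/

set_option autoImplicit false
set_option maxHeartbeats 400000

namespace Cfsg.Agent.ODD.Red

open Cfsg Cfsg.Agent.Characters Cfsg.Agent.Characters.Core

universe u

/-- `QA` for all quasisimple groups with a centre of odd order (universe `0`). -/
def AllQA : Prop :=
  ∀ (X : Type) [Group X] [Finite X], IsQuasisimple X → Odd (Nat.card (Subgroup.center X)) → QA X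

/-- The central elements of `2`-power order. -/
def Z2 (G : Type u) [Group G] (a : ℕ) : Subgroup G where
  carrier := {z | z ∈ Subgroup.center G ∧ z ^ 2 ^ a = 1}
  one_mem' := ⟨one_mem _, one_pow _⟩
  mul_mem' := fun {x y} hx hy => ⟨mul_mem hx.1 hy.1, by
    rw [Commute.mul_pow (Subgroup.mem_center_iff.1 hy.1 x), hx.2, hy.2, mul_one]⟩
  inv_mem' := fun {x} hx => ⟨inv_mem hx.1, by rw [inv_pow, hx.2, inv_one]⟩

theorem Z2_normal (G : Type u) [Group G] (a : ℕ) : (Z2 G a).Normal :=
  ⟨fun z hz g => by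
    rw [Subgroup.mem_center_iff.1 hz.1 g, mul_inv_cancel_right]
    exact hz⟩

theorem center_eq_bot_of_quasi {G : Type u} [Group G] (hG : IsQuasisimple G) :
    Subgroup.center (G ⧸ Subgroup.center G) = ⊥ := by
  have := hG.1
  have := hG.2
  rcases (inferInstance : (Subgroup.center (G ⧸ Subgroup.center G)).Normal).eq_bot_or_eq_top with h | h
  · exact h
  · exfalso
    have h1 : commutator (G ⧸ Subgroup.center G) = ⊤ := by
      have h2 := map_commutator_eq G (QuotientGroup.mk' (Subgroup.center G))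
      rw [hG.1.commutator_eq_top, MonoidHom.range_eq_top_of_surjective _ (QuotientGroup.mk'_surjective _),
        Subgroup.map_top_of_surjective _ (QuotientGroup.mk'_surjective _)] at h2
      exact h2.symm
    have h2 : commutator (G ⧸ Subgroup.center G) = ⊥ := by
      rw [commutator_def, Subgroup.commutator_top_right_eq_bot_iff_le_center, h]
    exact top_ne_bot (h1.symm.trans h2)

/-- A quasisimple group has a quotient in universe `0` with a centre of odd order and a central `2`-group as the kernel. -/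
theorem exists_odd_quot {G : Type u} [Group G] [Finite G] (hG : IsQuasisimple G) :
    ∃ (X : Type) (_ : Group X) (_ : Finite X) (φ : G →* X) (a : ℕ), Function.Surjective φ ∧
      IsQuasisimple X ∧ Odd (Nat.card (Subgroup.center X)) ∧ φ.ker = Z2 G a := by
  obtain ⟨a, m, hm, h⟩ := Nat.exists_eq_two_pow_mul_odd (Nat.card_pos (α := G)).ne'
  have := Z2_normal G a
  let e : Shrink.{0} (G ⧸ Z2 G a) ≃* G ⧸ Z2 G a := Shrink.mulEquiv
  let φ : G →* Shrink.{0} (G ⧸ Z2 G a) := e.symm.toMonoidHom.comp (QuotientGroup.mk' _)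
  have hφ : Function.Surjective φ := e.symm.surjective.comp (QuotientGroup.mk'_surjective _)
  have hker : φ.ker = Z2 G a := by
    ext z
    rw [MonoidHom.mem_ker]
    show e.symm (z : G ⧸ Z2 G a) = 1 ↔ _
    rw [map_eq_one_iff _ e.symm.injective, QuotientGroup.eq_one_iff]
  let π : Shrink.{0} (G ⧸ Z2 G a) →* G ⧸ Subgroup.center G :=
    (QuotientGroup.map (Z2 G a) (Subgroup.center G) (MonoidHom.id G) fun z hz => hz.1).comp e.toMonoidHom
  have hπ : ∀ g, π (φ g) = (g : G ⧸ Subgroup.center G) := by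
    intro g
    show QuotientGroup.map (Z2 G a) (Subgroup.center G) (MonoidHom.id G) (fun z hz => hz.1)
      (e (e.symm (g : G ⧸ Z2 G a))) = _
    rw [e.apply_symm_apply]
    rfl
  have hk : ∀ x ∈ π.ker, ∃ z ∈ Subgroup.center G, φ z = x := by
    intro x hx
    obtain ⟨g, rfl⟩ := hφ x
    rw [MonoidHom.mem_ker, hπ, QuotientGroup.eq_one_iff] at hx
    exact ⟨g, hx, rfl⟩
  have := hG.2
  have hfin : Finite (Shrink.{0} (G ⧸ Z2 G a)) := Finite.of_surjective φ hφ
  obtain ⟨h1, h2⟩ := H831.GenFit.quasisimple_of_ext (center_eq_bot_of_quasi hG) π (fun y => by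
      obtain ⟨g, rfl⟩ := QuotientGroup.mk_surjective y
      exact ⟨φ g, hπ g⟩) (fun x hx => by
      obtain ⟨z, hz, rfl⟩ := hk x hx
      rw [Subgroup.mem_center_iff]
      intro y
      obtain ⟨g, rfl⟩ := hφ y
      rw [← map_mul, ← map_mul, Subgroup.mem_center_iff.1 hz g]) (by
      have h2 := map_commutator_eq G φ
      rw [hG.1.commutator_eq_top, MonoidHom.range_eq_top_of_surjective _ hφ,
        Subgroup.map_top_of_surjective _ hφ] at h2
      exact h2.symm)
  refine ⟨_, inferInstance, hfin, φ, a, hφ, h1, ?_, hker⟩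
  refine odd_card_of_pow hm fun x => ?_
  obtain ⟨z, hz, hzx⟩ := hk x.1 (h2 ▸ x.2)
  apply Subtype.ext
  show x.1 ^ m = 1
  rw [← hzx, ← map_pow, ← MonoidHom.mem_ker, hker]
  exact ⟨pow_mem hz m, by rw [← pow_mul, mul_comm, ← h, pow_card_eq_one']⟩

/-- In a perfect group the central `2`-elements are in the kernel of the characters of odd degree. -/
theorem apply_Z2 {G : Type u} [Group G] [Finite G] (hG : commutator G = ⊤) {χ : G → ℂ}
    (hχ : IsIrrCharacter G χ) (ho : Odd (charDegree χ)) {a : ℕ} {z : G} (hz : z ∈ Z2 G a) : χ z = χ 1 := by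
  obtain ⟨c, h1, h2, h3⟩ := exists_central hχ hz.1
  have h4 : dH χ z = 1 := Abelianization.commutator_subset_ker (dH χ) (by rw [hG]; trivial)
  rw [h4, Units.val_one] at h3
  have h6 := pow_gcd_eq_one.2 ⟨h2 _ hz.2, h3.symm⟩
  rw [(Nat.Coprime.pow_left a (Nat.coprime_two_left.2 ho)).gcd_eq_one, pow_one] at h6
  have h7 := h1 1
  rwa [mul_one, h6, one_mul] at h7

/-- **S4789 from the rows.** -/
theorem qa_all (h : AllQA) {G : Type u} [Group G] [Finite G] (hG : IsQuasisimple G) : QA G := by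
  intro χ hχ ho hn
  obtain ⟨X, _, _, φ, a, hφ, hX, hZ, hk⟩ := exists_odd_quot hG
  obtain ⟨η, hη, hηχ⟩ := exists_quot φ hφ hχ fun z hz =>
    apply_Z2 hG.1.commutator_eq_top hχ ho (hk ▸ hz)
  obtain ⟨x, k, hx, hs⟩ := h X hX hZ η hη
    (by rwa [charDegree_congr (ψ := χ) (by rw [← hηχ, map_one])])
    (fun h1 => hn fun τ hτ g => by rw [← hηχ, h1 τ hτ])
  obtain ⟨g, rfl⟩ := hφ x
  have h1 : g ^ 2 ^ k ∈ Z2 G a := by
    rw [← hk, MonoidHom.mem_ker, map_pow, ← hx, pow_orderOf_eq_one]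
  have h2 : g ^ 2 ^ (k + a) = 1 := by rw [pow_add, pow_mul, h1.2]
  obtain ⟨j, -, hj⟩ := (Nat.dvd_prime_pow Nat.prime_two).1 (orderOf_dvd_of_pow_eq_one h2)
  exact ⟨g, j, hj, fun s hs' => by rw [← hηχ]; exact hs s hs'⟩

/-- The top step of the induction: a central extension of a simple group by a group of odd order. -/
theorem rat2_top (h : AllQA) {H S : Type u} [Group H] [Finite H] [Group S] [IsSimpleGroup S] (π : H →* S)
    (hπ : Function.Surjective π) (hc : π.ker ≤ Subgroup.center H) (hodd : Odd (Nat.card π.ker)) {β : H → ℂ}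
    (hβ : IsIrrCharacter H β) (ho : Odd (charDegree β)) {s : ℂ ≃+* ℂ} (hs : s Complex.I = -Complex.I)
    (hfix : ∀ x ∈ commutator H, s (β x) = β x) : Rat2 β := by
  have : Finite S := Finite.of_surjective π hπ
  by_cases hab : IsMulCommutative S
  · -- prime order
    have hp : (Nat.card S).Prime := by
      let _ : CommGroup S := { (inferInstance : Group S) with mul_comm := hab.is_comm.comm }
      exact IsSimpleGroup.prime_card
    have hk : ∀ x : H, (x ^ Nat.card S) ^ Nat.card π.ker = 1 := by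
      intro x
      have h1 : x ^ Nat.card S ∈ π.ker := by rw [MonoidHom.mem_ker, map_pow, pow_card_eq_one']
      have h2 : (⟨_, h1⟩ : π.ker) ^ Nat.card π.ker = 1 := pow_card_eq_one'
      exact congrArg Subtype.val h2
    rcases hp.eq_two_or_odd' with h2 | h2
    · refine rat2_of_exponent hodd (fun x => ?_) (isIrr_isCharacter hβ)
      rw [pow_mul, ← h2, hk]
    · refine rat2_of_exponent (h2.mul hodd) (fun x => ?_) (isIrr_isCharacter hβ)
      rw [mul_comm, pow_mul, pow_mul, hk, one_pow]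
  · have hS : Subgroup.center S = ⊥ := by
      rcases (inferInstance : (Subgroup.center S).Normal).eq_bot_or_eq_top with h | h
      · exact h
      · exact absurd ⟨⟨fun a b => Subgroup.mem_center_iff.1 (h ▸ Subgroup.mem_top b) a⟩⟩ hab
    have hcen : Subgroup.center H = π.ker := by
      refine le_antisymm (fun z hz => ?_) hc
      have h1 : π z ∈ Subgroup.center S := by
        rw [Subgroup.mem_center_iff]
        intro y
        obtain ⟨k, rfl⟩ := hπ y
        rw [← map_mul, ← map_mul, Subgroup.mem_center_iff.1 hz k]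
      rw [hS] at h1
      exact Subgroup.mem_bot.1 h1
    let e : H ⧸ Subgroup.center H ≃* S :=
      (QuotientGroup.quotientMulEquivOfEq hcen).trans (QuotientGroup.quotientKerEquivOfSurjective π hπ)
    obtain ⟨h1, h2⟩ := S1258.result (X := H) e.isSimpleGroup (fun h3 => hab ⟨⟨fun a b => by
      obtain ⟨a, rfl⟩ := e.surjective a
      obtain ⟨b, rfl⟩ := e.surjective b
      rw [← map_mul, ← map_mul, h3.is_comm.comm]⟩⟩)
    have h3 : ∀ g : H, ∃ c ∈ Subgroup.center H, ∃ x ∈ commutator H, g = c * x := by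
      intro g
      have h4 : g ∈ Subgroup.center H ⊔ commutator H := by rw [sup_comm, h1]; trivial
      obtain ⟨c, hc, x, hx, h5⟩ := Subgroup.mem_sup_of_normal_left.1 h4
      exact ⟨c, hc, x, hx, h5.symm⟩
    have h4 : IsIrrCharacter (commutator H) (fun x => β ((commutator H).subtype x)) :=
      isIrr_comp_central _ (fun g => by
        obtain ⟨c, hc, x, hx, h5⟩ := h3 g
        exact ⟨c, hc, ⟨x, hx⟩, h5⟩) hβ
    have h5 : Rat2 (fun x => β ((commutator H).subtype x)) := by
      by_contra hcon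
      obtain ⟨g, -, -, hg⟩ := qa_all h h2 _ h4 (by rwa [charDegree_congr (ψ := β) (by rw [map_one])]) hcon
      exact hg s hs (hfix g g.2)
    exact fun τ hτ => fix_of_central (Subgroup.center H) (commutator H) le_rfl (hcen ▸ hodd) h3 hβ hτ
      fun x hx => h5 τ hτ ⟨x, hx⟩

theorem rat2_of_fix_aux (h : AllQA) (n : ℕ) : ∀ (G : Type u) [Group G] [Finite G], Nat.card G = n →
    ∀ χ : G → ℂ, IsIrrCharacter G χ → Odd (charDegree χ) → ∀ s : ℂ ≃+* ℂ, s Complex.I = -Complex.I →
      Fix s χ → Rat2 χ := by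
  induction n using Nat.strong_induction_on with
  | _ n ih =>
  intro G _ _ hn
  -- determinants of odd order, `s` of `2`-power order
  suffices key : ∀ χ : G → ℂ, IsIrrCharacter G χ → Odd (charDegree χ) → OddDet χ → ∀ s : ℂ ≃+* ℂ,
      s Complex.I = -Complex.I → (∃ b : ℕ, ∀ z : ℂ, z ^ Nat.card G = 1 → (s ^ 2 ^ b) z = z) → Fix s χ → Rat2 χ by
    intro χ hχ ho s hs hfix
    obtain ⟨δ, hδ, hd⟩ := exists_twist (isIrr_isCharacter hχ) ho fun k a h1 g => by
      apply Units.ext
      rw [Units.val_pow_eq_pow_val]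
      refine sq_of_fix hs a _ (by rw [← Units.val_pow_eq_pow_val, h1, Units.val_one]) ?_
      rw [Units.val_pow_eq_pow_val, map_pow, dH_fix hχ hfix]
    obtain ⟨k, b, hk, hb⟩ := exists_odd_pow s (Nat.card_pos (α := G)).ne'
    have h1 := key _ (isIrr_lin_mul δ hχ) (by rwa [charDegree_congr (ψ := χ) (by simp)]) hd (s ^ k)
      (pow_I_of_odd hs hk) ⟨b, hb⟩ ((fix_twist_iff hδ _ χ).2 (hfix.pow k))
    exact fun τ hτ => (fix_twist_iff hδ τ χ).1 (h1 τ hτ)
  rintro χ hχ ho hd s hs ⟨b, hb⟩ hfix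
  rcases subsingleton_or_nontrivial G with hG | hG
  · exact rat2_of_odd (by rw [Nat.card_of_subsingleton (1 : G)]; exact odd_one) (isIrr_isCharacter hχ)
  obtain ⟨N, _, hS⟩ := H438.MaxOrders.exists_simple_quotient G
  have := Fintype.ofFinite N
  have hlt : ∀ T : Subgroup G, T ≠ ⊤ → Nat.card T < n := by
    intro T hT
    rw [← hn]
    refine lt_of_le_of_ne (Subgroup.card_le_card_group T) fun h1 => hT ?_
    exact Subgroup.eq_top_of_card_eq T h1
  have hN : N ≠ ⊤ := by
    rintro rfl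
    exact not_subsingleton (G ⧸ (⊤ : Subgroup G)) QuotientGroup.subsingleton_quotient_top
  obtain ⟨θ, hθ, hsθ⟩ := exists_OC_fix (X := fun n : N => χ n) (σ := s) (b := b)
    (Clifford.isCharacter_restrict N (isIrr_isCharacter hχ))
    (by rwa [charDegree_congr (ψ := χ) (by simp)]) (fun n => hfix n) fun θ hθ =>
      fix_of_roots (Nat.card_pos (α := G)).ne' (fun n => Subtype.ext (by
        rw [SubgroupClass.coe_pow, pow_card_eq_one']; rfl)) hb (isIrr_isCharacter hθ)
  have hθ2 : Rat2 θ := ih _ (hlt N hN) N rfl θ hθ.1 hθ.2.1 s hs hsθ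
  obtain ⟨T, ψ, hT, -, -, hψ, hψo, h1, h2⟩ := cliff N hχ ho hθ.1 hθ.ne_zero
  by_cases hTt : T = ⊤
  · have hinv : ∀ (g : G) (n : N), θ (MulAut.conjNormal g n) = θ n := fun g => (hT g).1 (hTt ▸ Subgroup.mem_top g)
    obtain ⟨e, he⟩ := exists_restrict N hχ hθ.1 hinv hθ.ne_zero
    obtain ⟨H, _, _, π, β, hπ, hc, hodd, hβ, hβo, h3, h4⟩ := tri N hχ ho hd hθ.1 hinv he
    have h5 := rat2_top h π hπ hc hodd hβ hβo hs (h4 s hsθ hfix)
    exact fun τ hτ => h3 τ hτ (hθ2 τ hτ) (h5 τ hτ)
  · have h3 := ih _ (hlt T hTt) T rfl ψ hψ hψo s hs (h2 s hfix hsθ)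
    exact fun τ hτ => h1 τ (h3 τ hτ)

/-- **S4786 from the rows**, Galois wording. -/
theorem rat2_of_fix (h : AllQA) {G : Type u} [Group G] [Finite G] {χ : G → ℂ} (hχ : IsIrrCharacter G χ)
    (ho : Odd (charDegree χ)) {s : ℂ ≃+* ℂ} (hs : s Complex.I = -Complex.I) (hfix : Fix s χ) : Rat2 χ :=
  rat2_of_fix_aux h _ G rfl χ hχ ho s hs hfix

/-- **S4789**, the wording of the statement. -/
theorem s4789_of (h : AllQA) {G : Type u} [Group G] [Finite G] (hG : IsQuasisimple G) (χ : IrrCharacter G)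
    (hodd : Odd (charDegree (χ : G → ℂ))) (hnot : ¬ Rat2F (χ : G → ℂ)) :
    ∃ (g : G) (k : ℕ), orderOf g = 2 ^ k ∧
      Complex.I ∈ IntermediateField.adjoin ℚ ({(χ : G → ℂ) g} : Set ℂ) := by
  obtain ⟨g, k, h1, h2⟩ := qa_all h hG _ χ.2 hodd (by rwa [← rat2F_iff (isIrr_isCharacter χ.2)])
  exact ⟨g, k, h1, I_mem_iff.2 fun s hs h3 => h2 s hs (h3 _ rfl)⟩

/-- **S4786**, the wording of the statement. -/
theorem s4786_of (h : AllQA) {G : Type u} [Group G] [Finite G] (χ : IrrCharacter G)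
    (hodd : Odd (charDegree (χ : G → ℂ))) (hnot : ¬ Rat2F (χ : G → ℂ)) :
    Complex.I ∈ IntermediateField.adjoin ℚ (Set.range (χ : G → ℂ)) := by
  refine I_mem_iff.2 fun s hs h3 => hnot ?_
  rw [rat2F_iff (isIrr_isCharacter χ.2)]
  exact rat2_of_fix h χ.2 hodd hs fun g => h3 _ ⟨g, rfl⟩

end Cfsg.Agent.ODD.Red
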