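import Cfsg.Agent.S0000
import Cfsg.Agent.ODD.Red.A88
import Cfsg.Agent.ODD.Red.A87

/-!
# ODD: the boxes and the classification give `AllQA`, `AllQB`
-/

set_option autoImplicit false

namespace Cfsg.Agent.ODD.Red

open Cfsg

theorem allQA_of (hO : BoxO) (hA : BoxA) : AllQA := fun X _ _ hX hZ =>
  haveI := hX.2
  qa_of_known hO hA hX hZ (S0000.result (G := X ⧸ Subgroup.center X))

theorem allQB_of (hO : BoxO) (hB : BoxB) : AllQB := fun X _ _ hX hZ =>
  haveI := hX.2
  qb_of_known hO hB hX hZ (S0000.result (G := X ⧸ Subgroup.center X))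

end Cfsg.Agent.ODD.Red
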